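import Mathlib.Algebra.Field.ZMod
import Mathlib.GroupTheory.GroupAction.Quotient
import Mathlib.GroupTheory.Sylow
import Mathlib.Algebra.Group.MinimalAxioms
import Mathlib.Tactic.LinearCombination
import Mathlib.Tactic.Group

/-!
A central extension by `ZMod p` whose cocycle is transferred from a bilinear cocycle on a subgroup,
and its commutator form on that subgroup.
-/

set_option autoImplicit false
set_option linter.unusedSectionVars false

namespace Cfsg.Agent.InertTwo

universe u

variable {p : ℕ} {G : Type u} [Group G]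

variable (p G) in
/-- A normalised two-cocycle with values in `ZMod p` (trivial action). -/
structure Cocycle where
  /-- the values -/
  toFun : G → G → ZMod p
  assoc : ∀ g h k, toFun g h + toFun (g * h) k = toFun h k + toFun g (h * k)
  one_one : toFun 1 1 = 0

namespace Cocycle

variable (c : Cocycle p G)

theorem one_left (g : G) : c.toFun 1 g = 0 := by
  have h := c.assoc 1 1 g
  simp only [one_mul, c.one_one, zero_add] at h
  linear_combination -h

theorem one_right (g : G) : c.toFun g 1 = 0 := by
  have h := c.assoc g 1 1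
  simp only [mul_one, c.one_one, zero_add] at h
  linear_combination h

end Cocycle

/-- The central extension of a cocycle. -/
@[ext]
structure Ext (c : Cocycle p G) : Type u where
  /-- the central coordinate -/
  z : ZMod p
  /-- the image in the group -/
  g : G

namespace Ext

variable {c : Cocycle p G}

instance : Mul (Ext c) := ⟨fun x y => ⟨x.z + y.z + c.toFun x.g y.g, x.g * y.g⟩⟩
instance : One (Ext c) := ⟨⟨0, 1⟩⟩
instance : Inv (Ext c) := ⟨fun x => ⟨-x.z - c.toFun x.g⁻¹ x.g, x.g⁻¹⟩⟩

theorem mul_def (x y : Ext c) : x * y = ⟨x.z + y.z + c.toFun x.g y.g, x.g * y.g⟩ := rfl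
theorem one_def : (1 : Ext c) = ⟨0, 1⟩ := rfl
theorem inv_def (x : Ext c) : x⁻¹ = ⟨-x.z - c.toFun x.g⁻¹ x.g, x.g⁻¹⟩ := rfl

instance : Group (Ext c) :=
  Group.ofLeftAxioms
    (fun x y w => by
      refine Ext.ext ?_ (mul_assoc _ _ _)
      show x.z + y.z + c.toFun x.g y.g + w.z + c.toFun (x.g * y.g) w.g =
        x.z + (y.z + w.z + c.toFun y.g w.g) + c.toFun x.g (y.g * w.g)
      linear_combination c.assoc x.g y.g w.g)
    (fun x => by
      refine Ext.ext ?_ (one_mul _)
      show 0 + x.z + c.toFun 1 x.g = x.z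
      rw [c.one_left]; ring)
    (fun x => by
      refine Ext.ext ?_ (inv_mul_cancel _)
      show -x.z - c.toFun x.g⁻¹ x.g + x.z + c.toFun x.g⁻¹ x.g = 0
      ring)

instance [NeZero p] [Finite G] : Finite (Ext c) :=
  Finite.of_injective (fun x => (x.z, x.g)) fun x y h =>
    Ext.ext (congrArg Prod.fst h) (congrArg Prod.snd h)

/-- The projection. -/
def proj (c : Cocycle p G) : Ext c →* G :=
  MonoidHom.mk' Ext.g fun _ _ => rfl

theorem proj_surjective : Function.Surjective (proj c) := fun g => ⟨⟨0, g⟩, rfl⟩

theorem mem_ker {x : Ext c} : x ∈ (proj c).ker ↔ x.g = 1 := MonoidHom.mem_ker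

theorem ker_le_center : (proj c).ker ≤ Subgroup.center (Ext c) := fun x hx =>
  Subgroup.mem_center_iff.mpr fun y => by
    rw [mem_ker] at hx
    refine Ext.ext ?_ ?_
    · show y.z + x.z + c.toFun y.g x.g = x.z + y.z + c.toFun x.g y.g
      rw [hx, c.one_left, c.one_right]; ring
    · show y.g * x.g = x.g * y.g
      rw [hx, mul_one, one_mul]

/-- The coordinate of an element of the kernel, as a homomorphism. -/
def kerCoord (c : Cocycle p G) : (proj c).ker →* Multiplicative (ZMod p) :=
  MonoidHom.mk' (fun x => Multiplicative.ofAdd (x : Ext c).z) fun x y => by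
    rw [← ofAdd_add]
    refine congrArg _ ?_
    show (x : Ext c).z + (y : Ext c).z + c.toFun _ _ = _
    rw [mem_ker.mp x.2, c.one_left, add_zero]

theorem card [Finite G] : Nat.card (Ext c) = p * Nat.card G := by
  rw [Nat.card_congr ⟨fun x => (x.z, x.g), fun q => ⟨q.1, q.2⟩, fun _ => rfl, fun _ => rfl⟩,
    Nat.card_prod, Nat.card_zmod]

end Ext

/-! ### The transferred cocycle -/

variable (P : Subgroup G)

/-- The base point of the `P`-orbit of a coset. -/
noncomputable def base (i : G ⧸ P) : G ⧸ P :=
  (Quotient.mk'' i : MulAction.orbitRel.Quotient P (G ⧸ P)).out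

/-- An element of `P` moving the base point of the orbit to the coset. -/
noncomputable def move (i : G ⧸ P) : P :=
  (MulAction.orbitRel_apply.mp (Quotient.exact' (Quotient.out_eq'
    (Quotient.mk'' i : MulAction.orbitRel.Quotient P (G ⧸ P))).symm)).choose

theorem move_smul (i : G ⧸ P) : (move P i : G) • base P i = i :=
  (MulAction.orbitRel_apply.mp (Quotient.exact' (Quotient.out_eq'
    (Quotient.mk'' i : MulAction.orbitRel.Quotient P (G ⧸ P))).symm)).choose_spec

theorem base_smul (x : P) (i : G ⧸ P) : base P ((x : G) • i) = base P i :=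
  congrArg Quotient.out (Quotient.sound' (MulAction.orbitRel_apply.mpr ⟨x, rfl⟩))

/-- A representative of the coset, compatible with the orbits of `P`. -/
noncomputable def rep (i : G ⧸ P) : G := (move P i : G) * (base P i).out

theorem rep_mk (i : G ⧸ P) : ((rep P i : G) : G ⧸ P) = i := by
  rw [rep, ← smul_eq_mul, ← MulAction.Quotient.smul_coe, QuotientGroup.out_eq', move_smul]

/-- The `P`-valued monodromy. -/
noncomputable def mono (g : G) (i : G ⧸ P) : P :=
  ⟨(rep P (g • i))⁻¹ * g * rep P i, by
    rw [mul_assoc, ← QuotientGroup.eq, rep_mk]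
    conv_lhs => rw [← rep_mk P i]
    exact (MulAction.Quotient.smul_coe _ _ _)⟩

theorem mono_mul (g h : G) (i : G ⧸ P) : mono P (g * h) i = mono P g (h • i) * mono P h i := by
  refine Subtype.ext ?_
  show (rep P ((g * h) • i))⁻¹ * (g * h) * rep P i =
    (rep P (g • h • i))⁻¹ * g * rep P (h • i) * ((rep P (h • i))⁻¹ * h * rep P i)
  rw [mul_smul]
  group

theorem mono_one (i : G ⧸ P) : mono P 1 i = 1 := by
  refine Subtype.ext ?_
  show (rep P ((1 : G) • i))⁻¹ * 1 * rep P i = 1
  rw [one_smul]
  group

variable [Fintype (G ⧸ P)] {a b : P → ZMod p}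

/-- The transfer of the bilinear cocycle `(x, y) ↦ a x * b y`. -/
noncomputable def transferred (ha : ∀ x y, a (x * y) = a x + a y)
    (hb : ∀ x y, b (x * y) = b x + b y) : Cocycle p G where
  toFun g h := ∑ i : G ⧸ P, a (mono P g (h • i)) * b (mono P h i)
  assoc g h k := by
    have h1 : ∑ i : G ⧸ P, a (mono P g (h • i)) * b (mono P h i) =
        ∑ i : G ⧸ P, a (mono P g (h • k • i)) * b (mono P h (k • i)) :=
      (Equiv.sum_comp (MulAction.toPerm k) fun i => a (mono P g (h • i)) * b (mono P h i)).symm
    rw [h1, ← Finset.sum_add_distrib, ← Finset.sum_add_distrib]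
    refine Finset.sum_congr rfl fun i _ => ?_
    rw [mono_mul, mono_mul P h k, ha, hb, mul_smul]
    ring
  one_one := by
    have h0 : a 1 = 0 := by simpa using ha 1 1
    simp [mono_one, h0]

theorem transferred_commutator (hab : IsMulCommutative P) (ha : ∀ x y, a (x * y) = a x + a y)
    (hb : ∀ x y, b (x * y) = b x + b y)
    (hfus : ∀ g : G, ∀ s t s' t' : P, (s' : G) = g⁻¹ * s * g → (t' : G) = g⁻¹ * t * g →
      a s' * b t' = a s * b t)
    (x y : P) :
    (transferred P ha hb).toFun x y - (transferred P ha hb).toFun y x =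
      (P.index : ZMod p) * (a x * b y - a y * b x) := by
  -- the monodromy of an element of `P` is conjugate to an element of `P`
  let A : G ⧸ P → ZMod p := fun i => a (move P i)
  let B : G ⧸ P → ZMod p := fun i => b (move P i)
  let s : P → G ⧸ P → P := fun z i => (move P ((z : G) • i))⁻¹ * z * move P i
  have hs : ∀ (z : P) i, (mono P (z : G) i : G) =
      (base P i).out⁻¹ * (s z i : G) * (base P i).out := by
    intro z i
    show (rep P ((z : G) • i))⁻¹ * (z : G) * rep P i = _
    simp only [rep, base_smul, s, Subgroup.coe_mul, InvMemClass.coe_inv]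
    group
  have hprod : ∀ (z w : P) i, a (mono P (z : G) ((w : G) • i)) * b (mono P (w : G) i) =
      a (s z ((w : G) • i)) * b (s w i) := by
    intro z w i
    refine hfus ((base P i).out) _ _ _ _ ?_ (hs w i)
    rw [hs z, base_smul]
  have hainv : ∀ z, a z⁻¹ = -a z := fun z => by
    have h0 : a 1 = 0 := by simpa using ha 1 1
    have := ha z⁻¹ z
    rw [inv_mul_cancel, h0] at this
    linear_combination -this
  have hbinv : ∀ z, b z⁻¹ = -b z := fun z => by
    have h0 : b 1 = 0 := by simpa using hb 1 1
    have := hb z⁻¹ z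
    rw [inv_mul_cancel, h0] at this
    linear_combination -this
  have has : ∀ (z : P) i, a (s z i) = a z + A i - A ((z : G) • i) := fun z i => by
    simp only [s, ha, hainv, A]; ring
  have hbs : ∀ (z : P) i, b (s z i) = b z + B i - B ((z : G) • i) := fun z i => by
    simp only [s, hb, hbinv, B]; ring
  have hxy : ∀ i : G ⧸ P, (y : G) • (x : G) • i = (x : G) • (y : G) • i := fun i => by
    rw [smul_smul, smul_smul, ← Subgroup.coe_mul, ← Subgroup.coe_mul, hab.1.comm y x]
  have hre : ∀ (z : P) (F : G ⧸ P → ZMod p), ∑ i, F ((z : G) • i) = ∑ i, F i := fun z F =>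
    Equiv.sum_comp (MulAction.toPerm (z : G)) F
  show (∑ i : G ⧸ P, a (mono P (x : G) ((y : G) • i)) * b (mono P (y : G) i)) -
      (∑ i : G ⧸ P, a (mono P (y : G) ((x : G) • i)) * b (mono P (x : G) i)) = _
  simp only [hprod, has, hbs, hxy]
  have q1 : ∑ i : G ⧸ P, A ((x : G) • (y : G) • i) * B ((y : G) • i) =
      ∑ i, A ((x : G) • i) * B i := hre y (fun i => A ((x : G) • i) * B i)
  have q2 : ∑ i : G ⧸ P, A ((x : G) • (y : G) • i) * B ((x : G) • i) =
      ∑ i, A ((y : G) • i) * B i := by
    simp only [← hxy]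
    exact hre x (fun i => A ((y : G) • i) * B i)
  have q3 := hre x (fun i => A i * B i)
  have q4 := hre y (fun i => A i * B i)
  have l1 := hre x A
  have l2 := hre y A
  have l3 := hre x B
  have l4 := hre y B
  have l5 : ∑ i : G ⧸ P, A ((x : G) • (y : G) • i) = ∑ i, A i := (hre y fun i => A ((x : G) • i)).trans l1
  rw [Subgroup.index, Nat.card_eq_fintype_card, ← Finset.card_univ]
  simp only [add_mul, sub_mul, mul_add, mul_sub, Finset.sum_add_distrib, Finset.sum_sub_distrib,
    ← Finset.mul_sum, ← Finset.sum_mul, Finset.sum_const, nsmul_eq_mul] at *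
  linear_combination (a x) * (-l4) + (l2 - l5) * b y - q4 + q1 + (l5 - l1) * b x + (a y) * l3 + q3 - q2

end Cfsg.Agent.InertTwo
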