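import Cfsg.Agent.InertTwo.Flower

/-!
The common constituent takes the value `1` on every `p`-singular element.
-/

set_option autoImplicit false
set_option linter.unusedSectionVars false

open Cfsg Cfsg.Agent.OddChar
open scoped ComplexConjugate

namespace Cfsg.Agent.InertTwo

universe u

variable {p : ℕ} [hp : Fact p.Prime] {G : Type u} [Group G] [Fintype G] {P : Sylow p G} {t : G}
  {e : ℕ}

/-- The variance of `φ` about `1` on the section of `x`. -/
noncomputable def spread (p : ℕ) (φ : G → ℂ) (x : G) : ℝ :=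
  ((regCent p x).card : ℝ)⁻¹ * ∑ s ∈ regCent p x, Complex.normSq (φ (x * (s : G)) - 1)

theorem spread_nonneg (φ : G → ℂ) (x : G) : 0 ≤ spread p φ x :=
  mul_nonneg (inv_nonneg.mpr (Nat.cast_nonneg _)) (Finset.sum_nonneg fun _ _ => Complex.normSq_nonneg _)

theorem avgAt_add (F F' : G → ℂ) (x : G) :
    avgAt p (fun g => F g + F' g) x = avgAt p F x + avgAt p F' x := by
  simp only [avgAt, Finset.sum_add_distrib, mul_add]

theorem avgAt_smul (c : ℂ) (F : G → ℂ) (x : G) :
    avgAt p (fun g => c * F g) x = c * avgAt p F x := by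
  simp only [avgAt, ← Finset.mul_sum]; ring

theorem avgAt_conj (F : G → ℂ) (x : G) :
    avgAt p (fun g => conj (F g)) x = conj (avgAt p F x) := by
  simp only [avgAt, map_mul, map_inv₀, map_natCast, map_sum]

theorem spread_cast (φ : G → ℂ) (x : G) :
    (spread p φ x : ℂ) = avgAt p (fun g => (φ g - 1) * conj (φ g - 1)) x := by
  simp only [spread, avgAt]
  push_cast [Complex.normSq_eq_conj_mul_self]
  congr 1
  exact Finset.sum_congr rfl fun s _ => mul_comm _ _

variable [Fintype ↥(P : Subgroup G)] (H : Hyp P t) (he : IsPExp p G e)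
  (hq : 9 ≤ Nat.card ↥(P : Subgroup G))
  {φ : G → ℂ} (hφ : IsSignedIrr φ) (h0 : classInner φ 1 = 0)
  (hl : ∀ l : ↥(P : Subgroup G) →* ℂˣ, l ≠ 1 →
    IsSignedIrr (fOf P e l + 1 + φ) ∧ classInner (fOf P e l + 1 + φ) φ = 0)
include H he hφ h0 hl

theorem classInner_fOf_phi {l : ↥(P : Subgroup G) →* ℂˣ} (h : l ≠ 1) :
    classInner (fOf P e l) φ = -1 := by
  have h1 := (hl l h).2
  have h10 : classInner (1 : G → ℂ) φ = 0 := by rw [← CharCore.conj_classInner, h0, map_zero]
  rw [CharCore.classInner_add_left, CharCore.classInner_add_left, h10, signed_inner_self hφ,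
    add_zero] at h1
  linear_combination h1

theorem avgAt_phi {x : ↥(P : Subgroup G)} (hx : x ≠ 1) : avgAt p φ (x : G) = 1 := by
  classical
  have hcomm : ∀ a b : ↥(P : Subgroup G), a * b = b * a := fun a b =>
    Subtype.ext (H.comm a a.2 b b.2)
  have hcl : IsClassFunction G φ :=
    CharCore.IsGeneralizedCharacter.isClassFunction hφ.isGeneralizedCharacter
  set g : ↥(P : Subgroup G) → ℂ :=
    fun y => if y = 1 then 0 else conj (avgAt p φ (y : G)) - 1 with hg
  have hginv : ∀ y, g y⁻¹ = g y := fun y => by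
    simp only [g, inv_eq_one, InvMemClass.coe_inv, H.avgAt_inv hcl y.2]
  suffices hgx : g x = 0 by
    have h2 : conj (avgAt p φ (x : G)) = 1 := by simpa [g, hx, sub_eq_zero] using hgx
    simpa using congrArg conj h2
  refine eq_zero_of_fourier_const hcomm (fun l => ?_) hx
  by_cases hl1 : l = 1
  · simp [hl1]
  have hq0 : (Nat.card ↥(P : Subgroup G) : ℂ) ≠ 0 := Nat.cast_ne_zero.mpr Nat.card_pos.ne'
  have h1 := classInner_fOf_phi H he hφ h0 hl hl1
  rw [classInner_fOf H he l hcl, inv_mul_eq_iff_eq_mul₀ (mul_ne_zero two_ne_zero hq0)] at h1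
  have hpt : ∀ y : ↥(P : Subgroup G), theta l y * conj (avgAt p φ (y : G)) =
      theta l y * g y + theta l y := fun y => by
    by_cases hy : y = 1
    · simp [hy, theta_one]
    · simp only [g, hy, if_false]; ring
  rw [Finset.sum_congr rfl fun y _ => hpt y, Finset.sum_add_distrib] at h1
  have h2 := classInner_theta_one hl1
  rw [CharCore.classInner_def, inv_mul_eq_iff_eq_mul₀ hq0] at h2
  simp only [Pi.one_apply, map_one, mul_one] at h2
  rw [h2] at h1
  have hsym : ∑ y, (l y⁻¹ : ℂ) * g y = ∑ y, (l y : ℂ) * g y :=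
    Fintype.sum_equiv (Equiv.inv _) _ _ fun y => by simp [hginv]
  simp only [theta, sub_mul, add_mul, Finset.sum_add_distrib, Finset.sum_sub_distrib,
    ← Finset.mul_sum, hsym] at h1
  linear_combination h1 / 2

theorem avgAt_normSq {x : ↥(P : Subgroup G)} (hx : x ≠ 1) :
    avgAt p (fun g => φ g * conj (φ g)) (x : G) = 1 + (spread p φ (x : G) : ℂ) := by
  rw [spread_cast, show (fun g => φ g * conj (φ g)) =
    fun g => (φ g - 1) * conj (φ g - 1) + (φ g + (conj (φ g) + -1)) by
      funext g; simp only [map_sub, map_one]; ring,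
    avgAt_add, avgAt_add, avgAt_add, avgAt_phi H he hφ h0 hl hx,
    show avgAt p (fun g => conj (φ g)) (x : G) = 1 by
      rw [avgAt_conj, avgAt_phi H he hφ h0 hl hx, map_one],
    avgAt_const (F := fun _ : G => (-1 : ℂ)) (c := -1) fun _ _ => rfl]
  ring

include hq

open scoped Classical in
theorem sum_spread_lt :
    ∑ x ∈ Finset.univ.filter (fun x : ↥(P : Subgroup G) => x ≠ 1), spread p φ (x : G) < 4 := by
  classical
  obtain ⟨l, hl1⟩ : ∃ l : ↥(P : Subgroup G) →* ℂˣ, l ≠ 1 := by
    by_contra hcon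
    push Not at hcon
    have hcomm : ∀ a b : ↥(P : Subgroup G), a * b = b * a := fun a b =>
      Subtype.ext (H.comm a a.2 b b.2)
    have : ∀ x : ↥(P : Subgroup G), x = 1 := fun x => by
      by_contra hx
      have := eq_zero_of_fourier_const hcomm (h := fun _ : ↥(P : Subgroup G) => (1 : ℂ))
        (fun l => by simp [hcon l]) hx
      exact one_ne_zero this
    have : Subsingleton ↥(P : Subgroup G) := ⟨fun a b => by rw [this a, this b]⟩
    have := Nat.card_of_subsingleton (1 : ↥(P : Subgroup G))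
    omega
  obtain ⟨hχ, -⟩ := hl l hl1
  set χ := fOf P e l + 1 + φ with hχdef
  have hcl : IsClassFunction G χ :=
    CharCore.IsGeneralizedCharacter.isClassFunction hχ.isGeneralizedCharacter
  have hnorm := signed_inner_self hχ
  rw [H.classInner_eq he hcl hcl] at hnorm
  -- the average of `|χ|²` over a section
  have havg : ∀ x : ↥(P : Subgroup G), x ≠ 1 → avgAt p (fun g => χ g * conj (χ g)) (x : G) =
      ((l x : ℂ) + l x⁻¹) * conj ((l x : ℂ) + l x⁻¹) + spread p φ (x : G) := by
    intro x hx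
    set c := (l x : ℂ) + l x⁻¹
    rw [avgAt_congr (F' := fun g => c * conj c + ((φ g - 1) * conj (φ g - 1) +
      (conj c * (φ g + -1) + c * (conj (φ g) + -1)))) fun s hs => by
        have : χ ((x : G) * (s : G)) = c + (φ ((x : G) * (s : G)) - 1) := by
          simp only [χ, Pi.add_apply, Pi.one_apply, fOf_section H he l x hs, theta, c]; ring
        simp only [this, map_add, map_sub, map_one]; ring,
      avgAt_add, avgAt_add, avgAt_add,
      avgAt_const (F := fun _ : G => c * conj c) (c := c * conj c) fun _ _ => rfl,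
      avgAt_smul, avgAt_smul, avgAt_add, avgAt_add,
      avgAt_phi H he hφ h0 hl hx,
      show avgAt p (fun g => conj (φ g)) (x : G) = 1 by
        rw [avgAt_conj, avgAt_phi H he hφ h0 hl hx, map_one],
      avgAt_const (F := fun _ : G => (-1 : ℂ)) (c := -1) fun _ _ => rfl, spread_cast]
    ring
  -- `∑ |l + l⁻¹|² = 2 q`
  have hsum : ∑ x : ↥(P : Subgroup G), ((l x : ℂ) + l x⁻¹) * conj ((l x : ℂ) + l x⁻¹) =
      2 * (Nat.card ↥(P : Subgroup G) : ℂ) := by
    have hq0 : (Nat.card ↥(P : Subgroup G) : ℂ) ≠ 0 := Nat.cast_ne_zero.mpr Nat.card_pos.ne'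
    have e0 : classInner ((fun x => (l x : ℂ)) + fun x => (l⁻¹ x : ℂ))
        ((fun x => (l x : ℂ)) + fun x => (l⁻¹ x : ℂ)) = 2 := by
      simp only [CharCore.classInner_add_left, CharCore.classInner_add_right, classInner_hom,
        hom_ne_inv H he hl1, (hom_ne_inv H he hl1).symm, if_false, if_true]
      norm_num
    rw [CharCore.classInner_def, inv_mul_eq_iff_eq_mul₀ hq0] at e0
    rw [mul_comm (2 : ℂ), ← e0]
    exact Finset.sum_congr rfl fun x _ => by simp [map_inv]
  rw [← Finset.sum_filter_add_sum_filter_not Finset.univ (fun x : ↥(P : Subgroup G) => x ≠ 1)] at hsum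
  rw [show (Finset.univ.filter fun x : ↥(P : Subgroup G) => ¬ x ≠ 1) = {1} by ext; simp,
    Finset.sum_singleton] at hsum
  have htr : ∑ x ∈ Finset.univ.filter (fun x : G => x ∈ (P : Subgroup G) ∧ x ≠ 1),
      avgAt p (fun g => χ g * conj (χ g)) x =
      (2 * (Nat.card ↥(P : Subgroup G) : ℂ) - 4) +
        ((∑ x ∈ Finset.univ.filter (fun x : ↥(P : Subgroup G) => x ≠ 1), spread p φ (x : G) : ℝ) : ℂ) := by
    have hb : ∑ x ∈ Finset.univ.filter (fun x : G => x ∈ (P : Subgroup G) ∧ x ≠ 1),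
        avgAt p (fun g => χ g * conj (χ g)) x =
        ∑ x ∈ Finset.univ.filter (fun x : ↥(P : Subgroup G) => x ≠ 1),
          avgAt p (fun g => χ g * conj (χ g)) (x : G) := by
      symm
      refine Finset.sum_bij (fun x _ => (x : G)) ?_ ?_ ?_ (fun _ _ => rfl)
      · intro x hx
        exact Finset.mem_filter.mpr ⟨Finset.mem_univ _, x.2, fun h => (Finset.mem_filter.mp hx).2 (Subtype.ext h)⟩
      · intro x _ y _ h
        exact Subtype.ext h
      · intro g hg
        obtain ⟨h1, h2⟩ := (Finset.mem_filter.mp hg).2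
        exact ⟨⟨g, h1⟩, Finset.mem_filter.mpr ⟨Finset.mem_univ _, fun h => h2 (congrArg Subtype.val h)⟩, rfl⟩
    rw [hb, Finset.sum_congr rfl fun x hx => havg x (Finset.mem_filter.mp hx).2,
      Finset.sum_add_distrib, Complex.ofReal_sum]
    simp only [inv_one, map_one, Units.val_one, map_add] at hsum ⊢
    linear_combination hsum
  rw [htr] at hnorm
  -- the regular part is positive
  set S := ∑ x ∈ Finset.univ.filter (fun x : ↥(P : Subgroup G) => x ≠ 1), spread p φ (x : G)
  set reg : ℝ := ∑ g ∈ Finset.univ.filter (fun g : G => ¬ p ∣ orderOf g), Complex.normSq (χ g)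
  have hreg : (reg : ℂ) = ∑ g ∈ Finset.univ.filter (fun g : G => ¬ p ∣ orderOf g), χ g * conj (χ g) := by
    simp only [reg, Complex.ofReal_sum, Complex.normSq_eq_conj_mul_self, mul_comm (χ _)]
  have hpos : 0 < reg := by
    refine lt_of_lt_of_le (Complex.normSq_pos.mpr (signed_apply_one_ne_zero hχ)) ?_
    exact Finset.single_le_sum (f := fun g => Complex.normSq (χ g)) (fun g _ => Complex.normSq_nonneg _)
      (Finset.mem_filter.mpr ⟨Finset.mem_univ _, by simp [hp.out.not_dvd_one]⟩)
  rw [← hreg] at hnorm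
  have h2 : (Nat.card G : ℝ)⁻¹ * reg + (2 * (Nat.card ↥(P : Subgroup G) : ℝ))⁻¹ *
      ((2 * (Nat.card ↥(P : Subgroup G) : ℝ) - 4) + S) = 1 := by
    apply Complex.ofReal_injective
    simp only [Complex.ofReal_add, Complex.ofReal_mul, Complex.ofReal_inv, Complex.ofReal_sub,
      Complex.ofReal_natCast, Complex.ofReal_ofNat, Complex.ofReal_one]
    exact hnorm
  have hG : 0 < (Nat.card G : ℝ)⁻¹ * reg := mul_pos (inv_pos.mpr (Nat.cast_pos.mpr Nat.card_pos)) hpos
  have hqpos : (0 : ℝ) < 2 * (Nat.card ↥(P : Subgroup G) : ℝ) := by positivity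
  have h3 : (2 * (Nat.card ↥(P : Subgroup G) : ℝ))⁻¹ *
      ((2 * (Nat.card ↥(P : Subgroup G) : ℝ) - 4) + S) < 1 := by linarith
  rw [inv_mul_lt_iff₀ hqpos] at h3
  linarith

theorem spread_eq_zero {x : ↥(P : Subgroup G)} (hx : x ≠ 1) : spread p φ (x : G) = 0 := by
  classical
  have hcomm : ∀ a b : ↥(P : Subgroup G), a * b = b * a := fun a b =>
    Subtype.ext (H.comm a a.2 b b.2)
  have hcl : IsClassFunction G φ :=
    CharCore.IsGeneralizedCharacter.isClassFunction hφ.isGeneralizedCharacter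
  have hlt := sum_spread_lt H he hq hφ h0 hl
  set R : ↥(P : Subgroup G) → ℝ := fun y => if y = 1 then 0 else spread p φ (y : G) with hR
  have hsR : ∑ y, R y =
      ∑ y ∈ Finset.univ.filter (fun y : ↥(P : Subgroup G) => y ≠ 1), spread p φ (y : G) := by
    rw [Finset.sum_filter]
    exact Finset.sum_congr rfl fun y _ => by simp only [R, ne_eq, ite_not]
  have hRinv : ∀ y, R y⁻¹ = R y := fun y => by
    have h1 : spread p φ ((y⁻¹ : ↥(P : Subgroup G)) : G) = spread p φ (y : G) := by
      apply Complex.ofReal_injective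
      rw [spread_cast, spread_cast, InvMemClass.coe_inv, H.avgAt_inv ?_ y.2]
      intro g h; simp only [hcl g h]
    simp only [R, inv_eq_one, h1]
  suffices hRx : (R x : ℂ) = 0 by
    have := Complex.ofReal_eq_zero.mp hRx
    simpa [R, hx] using this
  refine eq_zero_of_fourier_const hcomm (h := fun y => (R y : ℂ)) (fun l => ?_) hx
  by_cases hl1 : l = 1
  · simp [hl1]
  set q : ℂ := (Nat.card ↥(P : Subgroup G) : ℂ) with hqdef
  have hq0 : q ≠ 0 := Nat.cast_ne_zero.mpr Nat.card_pos.ne'
  -- integrality of `⟪f, |φ|²⟫`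
  obtain ⟨k, hk⟩ := CharCore.IsGeneralizedCharacter.exists_classInner_eq_intCast
    (isGeneralizedCharacter_fOf H he l) (CharCore.isGeneralized_mul hφ.isGeneralizedCharacter
      (CharCore.IsGeneralizedCharacter.star hφ.isGeneralizedCharacter))
  have hcl2 : IsClassFunction G (fun g => φ g * conj (φ g)) := fun g h => by simp only [hcl g h]
  have h1 : classInner (fOf P e l) (fun g => φ g * conj (φ g)) = k := hk
  rw [classInner_fOf H he l hcl2, inv_mul_eq_iff_eq_mul₀ (mul_ne_zero two_ne_zero hq0)] at h1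
  have hpt : ∀ y : ↥(P : Subgroup G), theta l y * conj (avgAt p (fun g => φ g * conj (φ g)) (y : G)) =
      theta l y + theta l y * (R y : ℂ) := fun y => by
    by_cases hy : y = 1
    · simp [hy, theta_one]
    · rw [avgAt_normSq H he hφ h0 hl hy, map_add, map_one, Complex.conj_ofReal]
      simp only [R, hy, if_false]; ring
  rw [Finset.sum_congr rfl fun y _ => hpt y, Finset.sum_add_distrib] at h1
  have h2 := classInner_theta_one hl1
  rw [CharCore.classInner_def, inv_mul_eq_iff_eq_mul₀ hq0] at h2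
  simp only [Pi.one_apply, map_one, mul_one] at h2
  rw [h2] at h1
  have hsym : ∑ y, (l y⁻¹ : ℂ) * (R y : ℂ) = ∑ y, (l y : ℂ) * (R y : ℂ) :=
    Fintype.sum_equiv (Equiv.inv _) _ _ fun y => by simp [hRinv]
  simp only [theta, sub_mul, add_mul, Finset.sum_add_distrib, Finset.sum_sub_distrib,
    ← Finset.mul_sum, hsym] at h1
  have h3 : ∑ y, (l y : ℂ) * (R y : ℂ) - ∑ y, (R y : ℂ) = q * ((k + 1 : ℤ) : ℂ) := by
    push_cast; linear_combination h1 / 2
  -- but it is smaller than `q`
  have hRnn : ∀ y, 0 ≤ R y := fun y => by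
    simp only [R]; split_ifs with h
    · exact le_rfl
    · exact spread_nonneg _ _
  have hbound : ‖∑ y, (l y : ℂ) * (R y : ℂ) - ∑ y, (R y : ℂ)‖ ≤ 2 * ∑ y, R y := by
    refine (norm_sub_le _ _).trans (two_mul (∑ y, R y) ▸ add_le_add ?_ ?_) <;>
      refine (norm_sum_le _ _).trans (le_of_eq (Finset.sum_congr rfl fun y _ => ?_))
    · rw [norm_mul, CharCore.norm_hom_apply, one_mul, Complex.norm_of_nonneg (hRnn y)]
    · rw [Complex.norm_of_nonneg (hRnn y)]
  have hk0 : k + 1 = 0 := by
    by_contra hne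
    rw [h3, norm_mul, hqdef, Complex.norm_natCast, Complex.norm_intCast] at hbound
    have h4 : (1 : ℝ) ≤ |((k + 1 : ℤ) : ℝ)| := by exact_mod_cast Int.one_le_abs hne
    have h5 : (Nat.card ↥(P : Subgroup G) : ℝ) ≤
        (Nat.card ↥(P : Subgroup G) : ℝ) * |((k + 1 : ℤ) : ℝ)| :=
      le_mul_of_one_le_right (Nat.cast_nonneg _) h4
    have h6 : (9 : ℝ) ≤ (Nat.card ↥(P : Subgroup G) : ℝ) := by exact_mod_cast hq
    linarith [hsR ▸ hlt]
  rw [hk0, Int.cast_zero, mul_zero, sub_eq_zero] at h3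
  exact h3

theorem phi_eq_one {g : G} (hg : p ∣ orderOf g) : φ g = 1 := by
  classical
  obtain ⟨x, hx⟩ := exists_conj_mem P he g
  obtain ⟨c, hc⟩ := isConj_iff.mp hx
  have hx1 : x ≠ 1 := fun h => (he.pow_eq_one_iff g).mp (by
    rw [h] at hx
    exact isConj_one_left.mp hx) hg
  obtain ⟨y, hy, hcom, -, hyp⟩ := BlocksCore.isPPart_conj (he.isPPart g) c
  rw [hc] at hy hcom
  let s : ↥(Subgroup.centralizer ({(x : G)} : Set G)) :=
    ⟨y, Subgroup.mem_centralizer_singleton_iff.mpr hcom.eq.symm⟩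
  have hs : s ∈ regCent p (x : G) :=
    Finset.mem_filter.mpr ⟨Finset.mem_univ _, by rw [← Subgroup.orderOf_coe]; exact hyp⟩
  have h0' := spread_eq_zero H he hq hφ h0 hl hx1
  rw [spread, mul_eq_zero, inv_eq_zero, Nat.cast_eq_zero, Finset.card_eq_zero] at h0'
  have h1 := h0'.resolve_left (Finset.ne_empty_of_mem hs)
  rw [Finset.sum_eq_zero_iff_of_nonneg fun _ _ => Complex.normSq_nonneg _] at h1
  have h2 := sub_eq_zero.mp (Complex.normSq_eq_zero.mp (h1 s hs))
  change φ ((x : G) * y) = 1 at h2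
  rw [hy] at h2
  rwa [CharCore.IsGeneralizedCharacter.isClassFunction hφ.isGeneralizedCharacter g c] at h2

end Cfsg.Agent.InertTwo
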