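import Cfsg.Agent.InertTwo.Cover
import Cfsg.Agent.InertTwo.Singular
import Cfsg.Agent.CharB.BergerBase
import Cfsg.Agent.BC86.Core
import Mathlib.Tactic.FieldSimp

/-!
Products of two involutions, counted in the group and in the cover: the common constituent of the
lifts has degree one or is constant on the involutions.
-/

set_option autoImplicit false
set_option linter.unusedSectionVars false

open Cfsg Cfsg.Agent.OddChar
open scoped ComplexConjugate

namespace Cfsg.Agent.InertTwo

universe u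

section ClassSum

variable {K : Type u} [Group K] [Fintype K]

/-- The sum of `F` over the products of two conjugates of `s`. -/
noncomputable def conjSum (s : K) (F : K → ℂ) : ℂ :=
  ∑ a : K, ∑ b : K, F (a * s * a⁻¹ * (b * s * b⁻¹))

theorem conjSum_add (s : K) (F F' : K → ℂ) : conjSum s (F + F') = conjSum s F + conjSum s F' := by
  simp only [conjSum, Pi.add_apply, Finset.sum_add_distrib]

theorem conjSum_smul (s : K) (c : ℂ) (F : K → ℂ) : conjSum s (c • F) = c * conjSum s F := by
  simp only [conjSum, Pi.smul_apply, smul_eq_mul, Finset.mul_sum]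

theorem conjSum_sub (s : K) (F F' : K → ℂ) : conjSum s (F - F') = conjSum s F - conjSum s F' := by
  simp only [conjSum, Pi.sub_apply, Finset.sum_sub_distrib]

theorem conjSum_sum {ι : Type*} (t : Finset ι) (s : K) (F : ι → K → ℂ) :
    conjSum s (∑ i ∈ t, F i) = ∑ i ∈ t, conjSum s (F i) := by
  classical
  induction t using Finset.induction_on with
  | empty => simp [conjSum]
  | insert i u hi ih => rw [Finset.sum_insert hi, Finset.sum_insert hi, conjSum_add, ih]

theorem conjSum_one (s : K) : conjSum s 1 = (Nat.card K : ℂ) ^ 2 := by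
  simp [conjSum, Nat.card_eq_fintype_card, sq]

theorem conjSum_irr (s : K) (χ : IrrCharacter K) :
    conjSum s (χ : K → ℂ) =
      (Nat.card K : ℂ) ^ 2 * ((χ : K → ℂ) s ^ 2 / (χ : K → ℂ) 1) := by
  have h1 := CharCore.irr_apply_one_ne_zero χ
  rw [← mul_div_assoc, eq_div_iff h1, conjSum, Finset.sum_comm, Finset.sum_mul]
  rw [Finset.sum_congr rfl fun b _ => by
    rw [mul_comm, BC86.sum_conj_mul χ s (b * s * b⁻¹), CharCore.irr_isClassFunction χ s b]]
  simp [Nat.card_eq_fintype_card]
  ring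

theorem conjSum_signed (s : K) {α : K → ℂ} (hα : IsSignedIrr α) :
    conjSum s α = (Nat.card K : ℂ) ^ 2 * (α s ^ 2 / α 1) := by
  obtain ⟨ε, χ, hε, rfl⟩ := signed_exists_sign hα
  rw [conjSum_smul, conjSum_irr]
  rcases hε with rfl | rfl <;> simp [div_neg]

end ClassSum

theorem not_dvd_orderOf_of_mul_self {p : ℕ} [hp : Fact p.Prime] (h2 : p ≠ 2) {K : Type*} [Group K]
    {k : K} (hk : k * k = 1) : ¬ p ∣ orderOf k := fun h =>
  h2 ((Nat.prime_dvd_prime_iff_eq hp.out Nat.prime_two).mp
    (h.trans (orderOf_dvd_of_pow_eq_one (by rw [sq, hk]))))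

variable {p : ℕ} [hp : Fact p.Prime] {G : Type u} [Group G] [Fintype G] {P : Sylow p G} {t : G}
  {e : ℕ}

namespace TwoForms

variable {P : Subgroup G} (F : TwoForms p P)

/-- The character `x ↦ ψ (i a x + j b x)`. -/
noncomputable def lin [NeZero p] (q : ZMod p × ZMod p) : P →* ℂˣ :=
  MonoidHom.toHomUnits (G := P)
    { toFun := fun x => ZMod.stdAddChar (q.1 * F.a x + q.2 * F.b x)
      map_one' := by simp [F.a_one, F.b_one, AddChar.map_zero_eq_one]
      map_mul' := fun x y => by
        rw [← AddChar.map_add_eq_mul, F.a_mul, F.b_mul]; congr 1; ring }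

theorem lin_apply [NeZero p] (q : ZMod p × ZMod p) (x : P) :
    (F.lin q x : ℂ) = ZMod.stdAddChar (q.1 * F.a x + q.2 * F.b x) := rfl

theorem lin_inj [NeZero p] {q q' : ZMod p × ZMod p} (h : F.lin q = F.lin q') : q = q' := by
  refine Prod.ext ?_ ?_
  · have := congrArg (fun l : P →* ℂˣ => (l F.u : ℂ)) h
    simp only [lin_apply, F.au, F.bu] at this
    simpa using ZMod.injective_stdAddChar this
  · have := congrArg (fun l : P →* ℂˣ => (l F.v : ℂ)) h
    simp only [lin_apply, F.av, F.bv] at this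
    simpa using ZMod.injective_stdAddChar this

theorem lin_zero [NeZero p] : F.lin 0 = 1 := by
  ext x
  simp [lin_apply, AddChar.map_zero_eq_one]

theorem lin_inv [NeZero p] (q : ZMod p × ZMod p) : (F.lin q)⁻¹ = F.lin (-q) := by
  refine MonoidHom.ext fun x => inv_eq_of_mul_eq_one_right (Units.ext ?_)
  rw [Units.val_mul, lin_apply, lin_apply, ← AddChar.map_add_eq_mul, Units.val_one]
  simp only [Prod.fst_neg, Prod.snd_neg]
  ring_nf
  exact AddChar.map_zero_eq_one _

end TwoForms

variable (F : TwoForms p (P : Subgroup G))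

open scoped Classical in
/-- `p ^ 2` on the radical, zero elsewhere. -/
noncomputable def radFun (x : ↥(P : Subgroup G)) : ℂ := if (x : G) ∈ F.rad then (p : ℂ) ^ 2 else 0

theorem radFun_inv (x : ↥(P : Subgroup G)) : radFun F x⁻¹ = radFun F x := by
  classical
  simp only [radFun, InvMemClass.coe_inv, inv_mem_iff]

variable [Fintype ↥(P : Subgroup G)] (H : Hyp P t) (heG : IsPExp p G e)
include H heG

theorem liftRad_eq [NeZero p] : lift (P : Subgroup G) e (radFun F) =
    ((p : ℂ) ^ 2) • (1 : G → ℂ) + (2⁻¹ : ℂ) • ∑ q : ZMod p × ZMod p, fOf P e (F.lin q) := by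
  classical
  funext g
  obtain ⟨x, hx⟩ := exists_conj_mem P heG g
  simp only [Pi.add_apply, Pi.smul_apply, Pi.one_apply, smul_eq_mul, mul_one, Finset.sum_apply, fOf]
  rw [lift_eq (H.isStable (radFun_inv F)) hx]
  simp only [lift_eq (H.isStable (theta_inv _)) hx, theta, TwoForms.lin_apply, F.a_inv, F.b_inv]
  have hsum : ∑ q : ZMod p × ZMod p, ZMod.stdAddChar (q.1 * F.a x + q.2 * F.b x) = radFun F x := by
    rw [Fintype.sum_prod_type]
    simp only [AddChar.map_add_eq_mul, ← Finset.mul_sum, ← Finset.sum_mul,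
      AddChar.sum_mulShift _ (ZMod.isPrimitive_stdAddChar p), ZMod.card]
    have hmem : (x : G) ∈ F.rad ↔ F.a x = 0 ∧ F.b x = 0 :=
      ⟨fun ⟨_, h⟩ => h, fun h => ⟨x.2, h⟩⟩
    simp only [radFun, hmem]
    by_cases ha : F.a x = 0 <;> by_cases hb : F.b x = 0 <;> simp [ha, hb, sq]
  have hsum' : ∑ q : ZMod p × ZMod p, ZMod.stdAddChar (q.1 * -F.a x + q.2 * -F.b x) = radFun F x := by
    rw [← hsum]
    exact Fintype.sum_equiv (Equiv.neg _) _ _ fun q => by simp
  rw [Finset.sum_sub_distrib, Finset.sum_add_distrib, hsum, hsum', Finset.sum_const, Finset.card_univ,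
    Fintype.card_prod, ZMod.card, nsmul_eq_mul]
  push_cast
  ring

theorem fOf_one_hom : fOf P e (1 : ↥(P : Subgroup G) →* ℂˣ) = 0 := by
  funext g
  obtain ⟨x, hx⟩ := exists_conj_mem P heG g
  rw [fOf, lift_eq (H.isStable (theta_inv _)) hx]
  simp [theta]
  norm_num

omit heG
theorem sum_fOf [NeZero p] (T : (G → ℂ) → ℂ) (hT : T 0 = 0) {c : ℂ} (heG : IsPExp p G e)
    (h : ∀ l : ↥(P : Subgroup G) →* ℂˣ, l ≠ 1 → T (fOf P e l) = c) :
    ∑ q : ZMod p × ZMod p, T (fOf P e (F.lin q)) = ((p : ℂ) ^ 2 - 1) * c := by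
  classical
  rw [← Finset.add_sum_erase _ _ (Finset.mem_univ (0 : ZMod p × ZMod p)), F.lin_zero,
    fOf_one_hom H heG, hT, zero_add, Finset.sum_congr rfl fun q hq =>
      h _ fun h' => (Finset.mem_erase.mp hq).1 (F.lin_inj (h'.trans F.lin_zero.symm)),
    Finset.sum_const, Finset.card_erase_of_mem (Finset.mem_univ _), Finset.card_univ,
    Fintype.card_prod, ZMod.card, nsmul_eq_mul,
    Nat.cast_sub (Nat.one_le_iff_ne_zero.mpr (mul_ne_zero hp.out.ne_zero hp.out.ne_zero))]
  push_cast
  ring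

/-- A lift of `s` to an involution of the cover. -/
theorem exists_lift_involution {s : G} (hs : s * s = 1) :
    ∃ S : F.Cover, S * S = 1 ∧ S.g = s := by
  refine ⟨⟨-(2 : ZMod p)⁻¹ * F.cocycle.toFun s s, s⟩, Ext.ext ?_ hs, rfl⟩
  show -(2 : ZMod p)⁻¹ * F.cocycle.toFun s s + -(2 : ZMod p)⁻¹ * F.cocycle.toFun s s +
    F.cocycle.toFun s s = 0
  have := inv_mul_cancel₀ (two_ne_zero' (p := p) H)
  linear_combination (-F.cocycle.toFun s s) * this

theorem isStable_coverFun (Q : Sylow p F.Cover)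
    (hQ : (Q : Subgroup F.Cover) = (P : Subgroup G).comap (Ext.proj F.cocycle)) :
    IsStable (Q : Subgroup F.Cover) fun y => coverFun F t (y : F.Cover) := fun x y h => by
  obtain ⟨c, hc⟩ := isConj_iff.mp h
  exact (coverFun_conj_of_mem H F (hQ.le x.2) (hQ.le y.2) hc).symm

omit H in
theorem norm_stdAddChar [NeZero p] (z : ZMod p) : ‖(ZMod.stdAddChar z : ℂ)‖ = 1 :=
  AddChar.norm_apply _ z

/-- The central character of the cover. -/
noncomputable def kerChar : (Ext.proj F.cocycle).ker →* ℂˣ :=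
  haveI : NeZero p := ⟨hp.out.ne_zero⟩
  ((ZMod.stdAddChar (N := p)).toMonoidHom.comp (Ext.kerCoord F.cocycle)).toHomUnits

variable (he : IsPExp p F.Cover e) (Q : Sylow p F.Cover)
  (hQ : (Q : Subgroup F.Cover) = (P : Subgroup G).comap (Ext.proj F.cocycle))
include he hQ

/-- The value on elements whose `p`-part is central. -/
theorem liftCover_ker {g : F.Cover} (hg : g ^ e ∈ (Ext.proj F.cocycle).ker) :
    lift (Q : Subgroup F.Cover) e (fun y => coverFun F t (y : F.Cover)) g =
      (p : ℂ) * ((kerChar F ⟨g ^ e, hg⟩ : ℂˣ) : ℂ) := by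
  classical
  haveI : NeZero p := ⟨hp.out.ne_zero⟩
  have hm : g ^ e ∈ (Q : Subgroup F.Cover) := by
    rw [hQ]
    show (Ext.proj F.cocycle) (g ^ e) ∈ (P : Subgroup G)
    rw [MonoidHom.mem_ker.mp hg]
    exact one_mem _
  rw [lift_eq (isStable_coverFun F H Q hQ) (x := ⟨g ^ e, hm⟩) (IsConj.refl _)]
  rw [coverFun, if_pos (show (g ^ e).g ∈ F.rad by rw [Ext.mem_ker.mp hg]; exact one_mem _),
    normZ_z_ker H F hg, ← mul_assoc, inv_mul_cancel₀ (two_ne_zero' H), one_mul]
  rfl

theorem liftCover_sq (g : F.Cover) :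
    lift (Q : Subgroup F.Cover) e (fun y => coverFun F t (y : F.Cover)) g *
      conj (lift (Q : Subgroup F.Cover) e (fun y => coverFun F t (y : F.Cover)) g) =
      lift (P : Subgroup G) e (radFun F) g.g := by
  classical
  haveI : NeZero p := ⟨hp.out.ne_zero⟩
  obtain ⟨y, hy⟩ := exists_conj_mem Q he g
  have hyP : (y : F.Cover).g ∈ (P : Subgroup G) := hQ.le y.2
  have hy' : IsConj (g.g ^ e) (y : F.Cover).g := by
    have := MonoidHom.map_isConj (Ext.proj F.cocycle) hy
    rwa [map_pow] at this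
  rw [lift_eq (isStable_coverFun F H Q hQ) hy,
    lift_eq (H.isStable (radFun_inv F)) (x := ⟨_, hyP⟩) hy', coverFun, radFun]
  by_cases hr : (y : F.Cover).g ∈ F.rad
  · rw [if_pos hr, if_pos hr, Complex.mul_conj', norm_mul, Complex.norm_natCast, norm_stdAddChar,
      mul_one]
    push_cast
    rfl
  · rw [if_neg hr, if_neg hr, zero_mul]

/-- On a product of two involutions the lift is real. -/
theorem liftCover_pair {k l : F.Cover} (hk : k * k = 1) (hl : l * l = 1) :
    (p : ℂ) * lift (Q : Subgroup F.Cover) e (fun y => coverFun F t (y : F.Cover)) (k * l) =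
      lift (P : Subgroup G) e (radFun F) (k * l).g := by
  classical
  haveI : NeZero p := ⟨hp.out.ne_zero⟩
  obtain ⟨y, hy⟩ := exists_conj_mem Q he (k * l)
  have hyP : (y : F.Cover).g ∈ (P : Subgroup G) := hQ.le y.2
  have hy' : IsConj ((k * l).g ^ e) (y : F.Cover).g := by
    have := MonoidHom.map_isConj (Ext.proj F.cocycle) hy
    rwa [map_pow] at this
  rw [lift_eq (isStable_coverFun F H Q hQ) hy,
    lift_eq (H.isStable (radFun_inv F)) (x := ⟨_, hyP⟩) hy', coverFun, radFun]
  by_cases hr : (y : F.Cover).g ∈ F.rad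
  · rw [if_pos hr, if_pos hr]
    obtain ⟨c, hc⟩ := isConj_iff.mp hy
    have hk1 : k⁻¹ = k := inv_eq_of_mul_eq_one_right hk
    have hl1 : l⁻¹ = l := inv_eq_of_mul_eq_one_right hl
    have hinv : k * (k * l) ^ e * k⁻¹ = ((k * l) ^ e)⁻¹ := by
      rw [← conj_pow, ← inv_pow, mul_inv_rev, hk1, hl1, ← mul_assoc, hk, one_mul]
    have hinv' : (c * k * c⁻¹) * (y : F.Cover) * (c * k * c⁻¹)⁻¹ = (y : F.Cover)⁻¹ := by
      rw [← hc]
      calc c * k * c⁻¹ * (c * (k * l) ^ e * c⁻¹) * (c * k * c⁻¹)⁻¹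
          = c * (k * (k * l) ^ e * k⁻¹) * c⁻¹ := by group
        _ = _ := by rw [hinv]; group
    have hT := conj_eq_liftT H F hr (g := c * k * c⁻¹) (congrArg Ext.g hinv')
    rw [normZ, ← hT, hinv', mul_inv_cancel]
    show (p : ℂ) * ((p : ℂ) * ZMod.stdAddChar ((2 : ZMod p)⁻¹ * 0)) = _
    rw [mul_zero, AddChar.map_zero_eq_one]
    ring
  · rw [if_neg hr, if_neg hr, mul_zero]

omit he hQ
include F

/-- The common constituent is linear or constant on the involutions. -/
theorem exists_constituent :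
    ∃ φ : G → ℂ, IsSignedIrr φ ∧ classInner φ 1 = 0 ∧ (∀ g, p ∣ orderOf g → φ g = 1) ∧
      (φ 1 = 1 ∨ ∀ s : G, s * s = 1 → φ s = φ 1) := by
  classical
  haveI : NeZero p := ⟨hp.out.ne_zero⟩
  have h2 : (2 : ZMod p) ≠ 0 := two_ne_zero' H
  obtain ⟨e, he⟩ := exists_isPExp p F.Cover
  have heG : IsPExp p G e := he.of_surjective (Ext.proj F.cocycle) Ext.proj_surjective
  obtain ⟨Q, hQ⟩ := exists_sylow_cover H F
  have hne : ∀ q : ZMod p × ZMod p, q ≠ 0 → F.lin q ≠ 1 := fun q hq h =>
    hq (F.lin_inj (h.trans F.lin_zero.symm))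
  have hd : ∀ q q' : ZMod p × ZMod p, q ≠ q' → q ≠ -q' → F.lin q ≠ F.lin q' ∧ F.lin q ≠ (F.lin q')⁻¹ :=
    fun q q' h h' => ⟨fun e => h (F.lin_inj e), fun e => h' (F.lin_inj (e.trans (F.lin_inv q')))⟩
  have h11 : (1 : ZMod p) ≠ -1 := fun h => h2 (by linear_combination h)
  have h10 : (1 : ZMod p) ≠ 0 := one_ne_zero
  obtain ⟨φ, hφ, h0, hl⟩ := exists_center H heG (l₁ := F.lin (1, 0)) (l₂ := F.lin (0, 1))
    (l₃ := F.lin (1, 1)) (l₄ := F.lin (1, -1)) (hne _ (by simp)) (hne _ (by simp)) (hne _ (by simp))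
    (hne _ (by simp)) (hd _ _ (by simp) (by simp)) (hd _ _ (by simp) (by simp [h11]))
    (hd _ _ (by simp) (by simp [h11])) (hd _ _ (by simp) (by simp))
    (hd _ _ (by simp) (by simp)) (hd _ _ (by simp [h11]) (by simp [h11]))
  have hp3 : 3 ≤ p := by
    have := hp.out.two_le; have := H.odd; omega
  have hq : 9 ≤ Nat.card ↥(P : Subgroup G) := by
    rw [F.card_rad]
    calc 9 = 3 * 3 * 1 := rfl
      _ ≤ _ := Nat.mul_le_mul (Nat.mul_le_mul hp3 hp3) Nat.card_pos
  have hsing : ∀ g, p ∣ orderOf g → φ g = 1 := fun g hg => phi_eq_one H heG hq hφ h0 hl hg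
  refine ⟨φ, hφ, h0, hsing, or_iff_not_imp_left.mpr fun hD s hs => ?_⟩
  -- the two vectors on the cover
  have h11' : classInner (1 : G → ℂ) 1 = 1 :=
    (CharCore.isIrrCharacter_iff.mp CharCore.isIrrCharacter_one).2
  have h01 : classInner (1 : G → ℂ) φ = 0 := by rw [← CharCore.conj_classInner, h0, map_zero]
  set V : G → ℂ := 1 - φ with hV
  have hVgen : IsGeneralizedCharacter G V :=
    Coherence.gen_sub CharCore.isGeneralized_one hφ.isGeneralizedCharacter
  have hVreg : ∀ g, p ∣ orderOf g → V g = 0 := fun g hg => by simp [V, hsing g hg]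
  set X := twist (Ext.proj F.cocycle) e (kerChar F) V with hXdef
  set F1 := lift (Q : Subgroup F.Cover) e (fun y => coverFun F t (y : F.Cover)) with hF1def
  have hXgen : IsGeneralizedCharacter F.Cover X :=
    isGeneralizedCharacter_twist _ Ext.ker_le_center he heG _ hVgen hVreg
  have hF1gen : IsGeneralizedCharacter F.Cover F1 :=
    isGeneralizedCharacter_lift Q he (isStable_coverFun F H Q hQ)
      (isGeneralizedCharacter_coverFun H F Q hQ)
  have hoff : ∀ g : F.Cover, g ^ e ∉ (Ext.proj F.cocycle).ker → X g = 0 ∧ V g.g = 0 := fun g hg => by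
    refine ⟨by rw [hXdef, twist, dif_neg hg], hVreg _ ?_⟩
    by_contra h
    exact hg (by
      rw [MonoidHom.mem_ker, map_pow]; exact heG.pow_eq_one_of_regular h)
  have hon : ∀ (g : F.Cover) (hg : g ^ e ∈ (Ext.proj F.cocycle).ker),
      X g = (kerChar F ⟨g ^ e, hg⟩ : ℂ) * V g.g ∧
        (kerChar F ⟨g ^ e, hg⟩ : ℂ) * conj (kerChar F ⟨g ^ e, hg⟩ : ℂ) = 1 := fun g hg => by
    refine ⟨by rw [hXdef, twist, dif_pos hg]; rfl, ?_⟩
    rw [Complex.mul_conj']
    show ((‖(ZMod.stdAddChar (g ^ e).z : ℂ)‖ : ℂ)) ^ 2 = 1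
    rw [norm_stdAddChar]; simp
  have hXX : classInner X X = 2 := by
    calc classInner X X
        = classInner (fun g : F.Cover => V (Ext.proj F.cocycle g))
            (fun g : F.Cover => V (Ext.proj F.cocycle g)) := by
          rw [CharCore.classInner_def, CharCore.classInner_def]
          congr 1
          refine Finset.sum_congr rfl fun g _ => ?_
          by_cases hg : g ^ e ∈ (Ext.proj F.cocycle).ker
          · obtain ⟨h1, h2⟩ := hon g hg
            rw [h1, map_mul]
            show _ = V g.g * conj (V g.g)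
            linear_combination (V g.g * conj (V g.g)) * h2
          · obtain ⟨h1, h2⟩ := hoff g hg
            show _ = V g.g * conj (V g.g)
            rw [h1, h2]
      _ = classInner V V := CharB.classInner_comp_surjective _ Ext.proj_surjective V V
      _ = 2 := by
          rw [hV, CharCore.classInner_sub_left, CharCore.classInner_sub_right,
            CharCore.classInner_sub_right, h11', h0, h01, signed_inner_self hφ]
          norm_num
  have hFX : classInner F1 X = (p : ℂ) := by
    calc classInner F1 X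
        = classInner (fun g : F.Cover => ((p : ℂ) • (1 : G → ℂ)) (Ext.proj F.cocycle g))
            (fun g : F.Cover => V (Ext.proj F.cocycle g)) := by
          rw [CharCore.classInner_def, CharCore.classInner_def]
          congr 1
          refine Finset.sum_congr rfl fun g _ => ?_
          show _ = (p : ℂ) * 1 * conj (V g.g)
          by_cases hg : g ^ e ∈ (Ext.proj F.cocycle).ker
          · obtain ⟨h1, h2⟩ := hon g hg
            rw [h1, map_mul, hF1def, liftCover_ker F H he Q hQ hg]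
            linear_combination ((p : ℂ) * conj (V g.g)) * h2
          · obtain ⟨h1, h2⟩ := hoff g hg
            rw [h1, h2]; simp
      _ = classInner ((p : ℂ) • (1 : G → ℂ)) V :=
          CharB.classInner_comp_surjective _ Ext.proj_surjective _ V
      _ = p := by
          rw [CharCore.classInner_smul_left, hV, CharCore.classInner_sub_right, h11', h01]
          ring
  obtain ⟨b, hb⟩ : ∃ b : ℕ, p = 2 * b + 1 := hp.out.odd_of_ne_two H.odd
  have hFF : classInner F1 F1 = (((b + 1) * (b + 1) + b * b : ℤ) : ℂ) := by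
    calc classInner F1 F1
        = classInner (fun g : F.Cover => lift (P : Subgroup G) e (radFun F) (Ext.proj F.cocycle g))
            (fun g : F.Cover => (1 : G → ℂ) (Ext.proj F.cocycle g)) := by
          rw [CharCore.classInner_def, CharCore.classInner_def]
          congr 1
          refine Finset.sum_congr rfl fun g _ => ?_
          simp only [Pi.one_apply, map_one, mul_one]
          exact liftCover_sq F H he Q hQ g
      _ = classInner (lift (P : Subgroup G) e (radFun F)) 1 :=
          CharB.classInner_comp_surjective _ Ext.proj_surjective _ _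
      _ = _ := by
          rw [liftRad_eq F H heG, CharCore.classInner_add_left, CharCore.classInner_smul_left,
            CharCore.classInner_smul_left, CharCore.classInner_sum_left,
            sum_fOf F H (fun f => classInner f 1) (by simp [CharCore.classInner_def]) heG
              (fun l hl1 => classInner_fOf_one H heG l hl1), h11', hb]
          push_cast
          ring
  -- decomposition
  obtain ⟨α, β', hα, hβ', hαβ', hX⟩ := exists_sub_of_norm_two hXgen hXX
  obtain ⟨α, β, hα, hβ, hαβ, hX, hF1α⟩ : ∃ α β : F.Cover → ℂ, IsSignedIrr α ∧ IsSignedIrr β ∧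
      classInner α β = 0 ∧ X = α + β ∧ F1 = ((b : ℂ) + 1) • α + (b : ℂ) • β := by
    obtain ⟨c, hc⟩ := Coherence.inner_gen_int hF1gen hα.isGeneralizedCharacter
    obtain ⟨c', hc'⟩ := Coherence.inner_gen_int hF1gen hβ'.neg.isGeneralizedCharacter
    have hαβ : classInner α (-β') = 0 := by rw [CharCore.classInner_neg_right, hαβ', neg_zero]
    have hX' : X = α + -β' := by rw [hX, sub_eq_add_neg]
    have hcc : c + c' = 2 * (b : ℤ) + 1 := by
      have := hFX
      rw [hX', CharCore.classInner_add_right, hc, hc', hb] at this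
      exact_mod_cast this
    have hbes := bessel (Finset.univ : Finset (Fin 2)) (v := ![α, -β']) (k := ![c, c']) hF1gen hFF
      (by intro k _; fin_cases k <;> [exact hα; exact hβ'.neg])
      (by
        intro i _ j _ hij
        fin_cases i <;> fin_cases j
        · exact absurd rfl hij
        · exact hαβ
        · show classInner (-β') α = 0
          rw [← CharCore.conj_classInner, hαβ, map_zero]
        · exact absurd rfl hij)
      (by intro k _; fin_cases k <;> assumption)
    simp only [Fin.sum_univ_two, Matrix.cons_val_zero, Matrix.cons_val_one] at hbes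
    obtain rfl : c' = 2 * (b : ℤ) + 1 - c := by omega
    rcases (show c = b + 1 ∨ c = b by
      have : (b : ℤ) ≤ c ∧ c ≤ b + 1 := by
        constructor <;> nlinarith [hbes.1]
      omega) with rfl | rfl
    · refine ⟨α, -β', hα, hβ'.neg, hαβ, hX', ?_⟩
      rw [hbes.2 (by ring)]
      push_cast; ring_nf
    · refine ⟨-β', α, hβ'.neg, hα, ?_, by rw [hX', add_comm], ?_⟩
      · rw [← CharCore.conj_classInner, hαβ, map_zero]
      · rw [hbes.2 (by ring), add_comm]
        push_cast; ring_nf
  -- values at regular elements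
  have hval : ∀ g : F.Cover, ¬ p ∣ orderOf g →
      α g = (b : ℂ) + 1 + b * φ g.g ∧ β g = -((b : ℂ) + ((b : ℂ) + 1) * φ g.g) := fun g hg => by
    have hg1 : g ^ e ∈ (Ext.proj F.cocycle).ker := by
      rw [he.pow_eq_one_of_regular hg]; exact one_mem _
    have hk1 : (kerChar F ⟨g ^ e, hg1⟩ : ℂ) = 1 := by
      rw [show (⟨g ^ e, hg1⟩ : (Ext.proj F.cocycle).ker) = 1 from
        Subtype.ext (he.pow_eq_one_of_regular hg), map_one, Units.val_one]
    have h1 : X g = 1 - φ g.g := by rw [(hon g hg1).1, hk1, one_mul]; rfl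
    have h2 : F1 g = 2 * (b : ℂ) + 1 := by
      rw [hF1def, liftCover_ker F H he Q hQ hg1, hk1, mul_one, hb]; push_cast; ring
    rw [hX] at h1
    rw [hF1α] at h2
    simp only [Pi.add_apply, Pi.smul_apply, smul_eq_mul] at h1 h2
    constructor
    · linear_combination h2 - (b : ℂ) * h1
    · linear_combination ((b : ℂ) + 1) * h1 - h2
  -- the two counts
  obtain ⟨S, hS, rfl⟩ := exists_lift_involution F H hs
  have hSreg := not_dvd_orderOf_of_mul_self H.odd hS
  have hsreg := not_dvd_orderOf_of_mul_self H.odd hs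
  have hconj : ∀ a : F.Cover, a * S * a⁻¹ * (a * S * a⁻¹) = 1 := fun a => by
    calc a * S * a⁻¹ * (a * S * a⁻¹) = a * (S * S) * a⁻¹ := by group
      _ = 1 := by rw [hS]; group
  have hfib : ∀ f : G → ℂ, ∑ a : F.Cover, f a.g = (p : ℂ) * ∑ x : G, f x := fun f => by
    rw [Fintype.sum_equiv (⟨fun x => (x.z, x.g), fun q => ⟨q.1, q.2⟩, fun _ => rfl, fun _ => rfl⟩ :
      F.Cover ≃ ZMod p × G) (fun a => f a.g) (fun q => f q.2) (fun _ => rfl), Fintype.sum_prod_type]
    simp
  have hcount : conjSum S F1 = (p : ℂ) * conjSum S.g (lift (P : Subgroup G) e (radFun F)) := by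
    refine mul_left_cancel₀ (Nat.cast_ne_zero.mpr hp.out.ne_zero : (p : ℂ) ≠ 0) ?_
    simp only [conjSum, Finset.mul_sum]
    rw [Finset.sum_congr rfl fun a _ => Finset.sum_congr rfl fun c _ =>
      liftCover_pair F H he Q hQ (hconj a) (hconj c)]
    show ∑ a : F.Cover, ∑ c : F.Cover,
      lift (P : Subgroup G) e (radFun F) (a.g * S.g * a.g⁻¹ * (c.g * S.g * c.g⁻¹)) = _
    rw [Finset.sum_congr rfl fun a (_ : a ∈ Finset.univ) =>
      hfib fun y => lift (P : Subgroup G) e (radFun F) (a.g * S.g * a.g⁻¹ * (y * S.g * y⁻¹))]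
    rw [← Finset.mul_sum, hfib fun x => ∑ y : G,
      lift (P : Subgroup G) e (radFun F) (x * S.g * x⁻¹ * (y * S.g * y⁻¹))]
    simp only [Finset.mul_sum]
  set D := φ 1 with hDdef
  set σ := φ S.g with hσdef
  have hψ : ∀ l : ↥(P : Subgroup G) →* ℂˣ, l ≠ 1 →
      conjSum S.g (fOf P e l) =
        (Nat.card G : ℂ) ^ 2 * ((1 + σ) ^ 2 / (1 + D) - 1 - σ ^ 2 / D) := fun l hl1 => by
    have h := conjSum_signed S.g (hl l hl1).1
    simp only [Pi.add_apply, Pi.one_apply, fOf_regular H heG l hsreg,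
      fOf_regular H heG l (g := 1) (by simp [hp.out.not_dvd_one]), zero_add] at h
    rw [conjSum_add, conjSum_add, conjSum_one, conjSum_signed S.g hφ] at h
    linear_combination h
  rw [hF1α, conjSum_add, conjSum_smul, conjSum_smul, conjSum_signed S hα, conjSum_signed S hβ,
    (hval S hSreg).1, (hval S hSreg).2,
    (hval 1 (by simp [hp.out.not_dvd_one])).1, (hval 1 (by simp [hp.out.not_dvd_one])).2,
    liftRad_eq F H heG, conjSum_add, conjSum_smul, conjSum_smul, conjSum_one, conjSum_sum,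
    sum_fOf F H (conjSum S.g) (by simp [conjSum]) heG hψ, Ext.card, Nat.cast_mul,
    show (p : ℂ) = 2 * (b : ℂ) + 1 by exact_mod_cast hb] at hcount
  simp only [Ext.one_def] at hcount
  push_cast at hcount
  rw [← hDdef, ← hσdef] at hcount
  have hd0 : D ≠ 0 := signed_apply_one_ne_zero hφ
  have hd1 : 1 + D ≠ 0 := by
    have := signed_apply_one_ne_zero (hl _ (hne (1, 0) (by simp))).1
    simpa [fOf_regular H heG _ (g := 1) (by simp [hp.out.not_dvd_one])] using this
  have hαne : (b : ℂ) + 1 + b * D ≠ 0 := by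
    rw [← (show α 1 = (b : ℂ) + 1 + b * D from (hval 1 (by simp [hp.out.not_dvd_one])).1)]
    exact signed_apply_one_ne_zero hα
  have hβne : (b : ℂ) + ((b : ℂ) + 1) * D ≠ 0 := fun h => signed_apply_one_ne_zero hβ (by
    rw [(hval 1 (by simp [hp.out.not_dvd_one])).2]
    show -((b : ℂ) + ((b : ℂ) + 1) * D) = 0
    rw [h, neg_zero])
  obtain ⟨n, hn⟩ : ∃ n : ℤ, D = n := by
    obtain ⟨ε, χ, -, hχ⟩ := signed_exists_sign hφ
    obtain ⟨d, -, -, hd'⟩ := CharClifford.exists_degree_dvd_card χ.2
    exact ⟨ε * d, by rw [hDdef, hχ, Pi.smul_apply, smul_eq_mul, hd']; push_cast; ring⟩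
  have hN : (Nat.card G : ℂ) ≠ 0 := Nat.cast_ne_zero.mpr Nat.card_pos.ne'
  have hpne : (2 * (b : ℂ) + 1) ≠ 0 := by exact_mod_cast (show 2 * b + 1 ≠ 0 by omega)
  have hb0 : (b : ℂ) ≠ 0 := Nat.cast_ne_zero.mpr (by omega)
  have hb1 : (b : ℂ) + 1 ≠ 0 := by exact_mod_cast Nat.succ_ne_zero b
  have key : ((b : ℂ) * ((b : ℂ) + 1)) * (σ - D) ^ 2 *
      ((D - 1) * ((2 * b * (b + 1) + 1) * D + 2 * b * (b + 1))) = 0 := by
    field_simp at hcount
    refine mul_left_cancel₀ (mul_ne_zero two_ne_zero hpne) ?_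
    linear_combination -hcount
  rcases mul_eq_zero.mp key with h | h
  · rcases mul_eq_zero.mp h with h | h
    · exact absurd h (mul_ne_zero hb0 hb1)
    · exact sub_eq_zero.mp (pow_eq_zero_iff two_ne_zero |>.mp h)
  · exfalso
    rcases mul_eq_zero.mp h with h | h
    · exact hD (sub_eq_zero.mp h)
    · rw [hn] at h
      have h' : ((2 * (b : ℤ) * (b + 1) + 1) * n + 2 * b * (b + 1) : ℤ) = 0 := by exact_mod_cast h
      have hm : (2 * (b : ℤ) * (b + 1) + 1) * (n + 1) = 1 := by linear_combination h'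
      rcases Int.eq_one_or_neg_one_of_mul_eq_one hm with h3 | h3 <;> nlinarith [show (1:ℤ) ≤ b by omega]

end Cfsg.Agent.InertTwo
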