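import Cfsg.Agent.InertTwo.Sections
import Cfsg.Agent.Lib.CharCore.BlockCount
import Cfsg.Agent.Lib.Transfer.Focal
import Mathlib.GroupTheory.Transfer

/-!
An abelian Sylow `p`-subgroup `P` whose normalizer induces exactly the inversion: fusion,
centralizers of `p`-elements and the average of a class function over a section.
-/

set_option autoImplicit false
set_option linter.unusedSectionVars false

open Cfsg
open scoped ComplexConjugate

namespace Cfsg.Agent.InertTwo

universe u

variable {p : ℕ} [hp : Fact p.Prime] {G : Type u} [Group G] [Finite G]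

/-- `N(P)` induces on the abelian Sylow `p`-subgroup `P` the inversion by `t` and nothing more. -/
structure Hyp (P : Sylow p G) (t : G) : Prop where
  odd : p ≠ 2
  comm : ∀ x ∈ (P : Subgroup G), ∀ y ∈ (P : Subgroup G), x * y = y * x
  inv : ∀ x ∈ (P : Subgroup G), t * x * t⁻¹ = x⁻¹
  cent : ∀ n ∈ Subgroup.normalizer ((P : Subgroup G) : Set G),
    (∀ x ∈ (P : Subgroup G), n * x * n⁻¹ = x) ∨ (∀ x ∈ (P : Subgroup G), n * x * n⁻¹ = x⁻¹)

namespace Hyp

variable {P : Sylow p G} {t : G} (H : Hyp P t)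
include H

theorem sq_ne_one {x : G} (hx : x ∈ (P : Subgroup G)) (hx1 : x ≠ 1) : x⁻¹ ≠ x := fun h => by
  obtain ⟨k, hk⟩ := IsPGroup.iff_orderOf.mp P.2 ⟨x, hx⟩
  rw [Subgroup.orderOf_mk] at hk
  have h2 : orderOf x ∣ 2 := orderOf_dvd_of_pow_eq_one (by
    rw [sq]; nth_rw 1 [← h]; exact inv_mul_cancel x)
  rw [hk] at h2
  rcases (Nat.dvd_prime Nat.prime_two).mp h2 with h3 | h3
  · exact hx1 (orderOf_eq_one_iff.mp (hk.trans h3))
  · rcases Nat.eq_zero_or_pos k with rfl | hk0
    · simp at h3
    · exact H.odd ((Nat.prime_dvd_prime_iff_eq hp.out Nat.prime_two).mp (h3 ▸ dvd_pow_self p hk0.ne'))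

theorem eq_or_eq_inv_of_conj {x g : G} (hx : x ∈ (P : Subgroup G))
    (hgx : g * x * g⁻¹ ∈ (P : Subgroup G)) : g * x * g⁻¹ = x ∨ g * x * g⁻¹ = x⁻¹ := by
  have hab : IsMulCommutative ↥(P : Subgroup G) :=
    ⟨⟨fun a b => Subtype.ext (H.comm a a.2 b b.2)⟩⟩
  obtain ⟨n, hn, hnx⟩ := Transfer.conj_normalizer_of_abelian P hab hx hgx
  rw [← hnx]
  exact (H.cent n hn).imp (fun h => h x hx) fun h => h x hx

theorem eq_or_eq_inv {x y : G} (hx : x ∈ (P : Subgroup G)) (hy : y ∈ (P : Subgroup G))
    (h : IsConj x y) : y = x ∨ y = x⁻¹ := by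
  obtain ⟨g, rfl⟩ := isConj_iff.mp h
  exact H.eq_or_eq_inv_of_conj hx hy

theorem isConj_inv {x : G} (hx : x ∈ (P : Subgroup G)) : IsConj x x⁻¹ :=
  isConj_iff.mpr ⟨t, H.inv x hx⟩

theorem isStable {θ : ↥(P : Subgroup G) → ℂ} (hθ : ∀ x, θ x⁻¹ = θ x) :
    IsStable (P : Subgroup G) θ := by
  intro x y h
  rcases H.eq_or_eq_inv x.2 y.2 h with h | h
  · rw [Subtype.ext h]
  · rw [show y = x⁻¹ from Subtype.ext h, hθ]

/-- The centralizer of a nontrivial element of `P` has a normal `p`-complement. -/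
theorem hasNormalPComplement_centralizer {x : G} (hx : x ∈ (P : Subgroup G)) (hx1 : x ≠ 1) :
    HasNormalPComplement p ↥(Subgroup.centralizer ({x} : Set G)) := by
  have hle : (P : Subgroup G) ≤ Subgroup.centralizer ({x} : Set G) := fun y hy =>
    Subgroup.mem_centralizer_singleton_iff.mpr (H.comm y hy x hx)
  let Q : Sylow p ↥(Subgroup.centralizer ({x} : Set G)) := P.subtype hle
  have hQ : Subgroup.normalizer
        (Q : Set ↥(Subgroup.centralizer ({x} : Set G))) ≤
      Subgroup.centralizer (Q : Set ↥(Subgroup.centralizer ({x} : Set G))) := by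
    intro n hn
    have hnN : (n : G) ∈ Subgroup.normalizer ((P : Subgroup G) : Set G) := by
      rw [Subgroup.mem_normalizer_iff]
      intro y
      constructor
      · intro hy
        exact (Subgroup.mem_normalizer_iff.mp hn ⟨y, hle hy⟩).mp hy
      · intro hy
        have hyC : y ∈ Subgroup.centralizer ({x} : Set G) := by
          have h : (n : G) * y * (n : G)⁻¹ ∈ Subgroup.centralizer ({x} : Set G) := hle hy
          simpa [mul_assoc] using mul_mem (mul_mem (inv_mem n.2) h) n.2
        exact (Subgroup.mem_normalizer_iff.mp hn ⟨y, hyC⟩).mpr hy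
    have hnc : ∀ y ∈ (P : Subgroup G), (n : G) * y * (n : G)⁻¹ = y := by
      rcases H.cent _ hnN with h | h
      · exact h
      · exact absurd (by
          rw [← h x hx, Subgroup.mem_centralizer_singleton_iff.mp n.2, mul_inv_cancel_right])
          (H.sq_ne_one hx hx1)
    refine Subgroup.mem_centralizer_iff.mpr fun y hy => Subtype.ext ?_
    exact (mul_inv_eq_iff_eq_mul.mp (hnc _ hy)).symm
  exact ⟨Q, (MonoidHom.transferSylow Q hQ).ker, inferInstance,
    MonoidHom.ker_transferSylow_isComplement' Q hQ⟩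

open scoped Classical in
theorem card_centralizer {x : G} (hx : x ∈ (P : Subgroup G)) (hx1 : x ≠ 1)
    [Fintype ↥(Subgroup.centralizer ({x} : Set G))] :
    Nat.card ↥(Subgroup.centralizer ({x} : Set G)) = Nat.card ↥(P : Subgroup G) *
      (Finset.univ.filter fun s : ↥(Subgroup.centralizer ({x} : Set G)) => ¬ p ∣ orderOf s).card := by
  have hle : (P : Subgroup G) ≤ Subgroup.centralizer ({x} : Set G) := fun y hy =>
    Subgroup.mem_centralizer_singleton_iff.mpr (H.comm y hy x hx)
  have hC := H.hasNormalPComplement_centralizer hx hx1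
  have hcomp := Transfer.isComplement'_pResidual hC (P.subtype hle)
  rw [← hcomp.card_mul, mul_comm]
  congr 1
  · rw [Sylow.coe_subtype]
    exact Nat.card_congr (Subgroup.subgroupOfEquivOfLe hle).toEquiv
  · rw [← Nat.card_eq_finsetCard]
    refine Nat.card_congr (Equiv.subtypeEquivRight fun s => ?_)
    rw [Finset.mem_filter, and_iff_right (Finset.mem_univ s), Transfer.mem_pResidual_iff_coprime hC,
      Nat.coprime_comm, hp.out.coprime_iff_not_dvd]

end Hyp

open scoped Classical in
/-- The `p`-regular elements of the centralizer of `x`. -/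
noncomputable def regCent [Fintype G] (p : ℕ) (x : G) :
    Finset ↥(Subgroup.centralizer ({x} : Set G)) :=
  Finset.univ.filter fun s => ¬ p ∣ orderOf s

/-- The average of a function over the section of `x`. -/
noncomputable def avgAt [Fintype G] (p : ℕ) (F : G → ℂ) (x : G) : ℂ :=
  ((regCent p x).card : ℂ)⁻¹ * ∑ s ∈ regCent p x, F (x * (s : G))

theorem regCent_card_ne_zero [Fintype G] (x : G) : ((regCent p x).card : ℂ) ≠ 0 := by
  classical
  exact Nat.cast_ne_zero.mpr (Finset.card_ne_zero.mpr ⟨1, Finset.mem_filter.mpr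
    ⟨Finset.mem_univ _, by simp [hp.out.not_dvd_one]⟩⟩)

theorem avgAt_congr [Fintype G] {F F' : G → ℂ} {x : G}
    (h : ∀ s ∈ regCent p x, F (x * (s : G)) = F' (x * (s : G))) : avgAt p F x = avgAt p F' x := by
  rw [avgAt, avgAt, Finset.sum_congr rfl h]

theorem avgAt_const [Fintype G] {F : G → ℂ} {x : G} {c : ℂ}
    (h : ∀ s ∈ regCent p x, F (x * (s : G)) = c) : avgAt p F x = c := by
  rw [avgAt, Finset.sum_congr rfl h, Finset.sum_const, nsmul_eq_mul, ← mul_assoc,
    inv_mul_cancel₀ (regCent_card_ne_zero x), one_mul]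

namespace Hyp

variable {P : Sylow p G} {t : G} (H : Hyp P t) [Fintype G] {e : ℕ}
include H

theorem pow_mul_regCent (he : IsPExp p G e) {x : G} (hx : x ∈ (P : Subgroup G))
    {s : ↥(Subgroup.centralizer ({x} : Set G))} (hs : s ∈ regCent p x) :
    (x * (s : G)) ^ e = x := by
  classical
  refine he.pow_mul_eq (Subgroup.mem_centralizer_singleton_iff.mp s.2).symm ?_ ?_
  · obtain ⟨k, hk⟩ := IsPGroup.iff_orderOf.mp P.2 ⟨x, hx⟩
    exact ⟨k, by rwa [Subgroup.orderOf_mk] at hk⟩
  · rw [Subgroup.orderOf_coe]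
    exact (Finset.mem_filter.mp hs).2

theorem avgAt_inv {F : G → ℂ} (hF : IsClassFunction G F) {x : G} (hx : x ∈ (P : Subgroup G)) :
    avgAt p F x⁻¹ = avgAt p F x := by
  classical
  have hmem : ∀ s : G, t * s * t⁻¹ ∈ Subgroup.centralizer ({x⁻¹} : Set G) ↔
      s ∈ Subgroup.centralizer ({x} : Set G) := fun s => by
    rw [Subgroup.mem_centralizer_singleton_iff, Subgroup.mem_centralizer_singleton_iff, ← H.inv x hx,
      show t * s * t⁻¹ * (t * x * t⁻¹) = t * (s * x) * t⁻¹ by group,
      show t * x * t⁻¹ * (t * s * t⁻¹) = t * (x * s) * t⁻¹ by group, mul_left_inj, mul_right_inj]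
  let ε : ↥(Subgroup.centralizer ({x} : Set G)) ≃ ↥(Subgroup.centralizer ({x⁻¹} : Set G)) :=
    (MulAut.conj t).toEquiv.subtypeEquiv fun s => by simpa using (hmem s).symm
  have hε : ∀ s, ((ε s : G)) = t * (s : G) * t⁻¹ := fun s => rfl
  have hord : ∀ s, orderOf (ε s) = orderOf s := fun s => by
    rw [← Subgroup.orderOf_coe (ε s), hε, ← MulAut.conj_apply, MulEquiv.orderOf_eq,
      Subgroup.orderOf_coe]
  have hcard : (regCent p x).card = (regCent p x⁻¹).card :=
    Finset.card_equiv ε fun s => by simp [regCent, hord]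
  rw [avgAt, avgAt, ← hcard]
  congr 1
  refine (Finset.sum_equiv ε (fun s => by simp [regCent, hord]) fun s _ => ?_).symm
  rw [hε, ← H.inv x hx, show t * x * t⁻¹ * (t * (s : G) * t⁻¹) = t * (x * s) * t⁻¹ by group, hF]

open scoped Classical in
/-- Summing a class function over the regular elements and the sections of `P`. -/
theorem sum_eq (he : IsPExp p G e) {F : G → ℂ} (hF : IsClassFunction G F) :
    ∑ g, F g = (∑ g ∈ Finset.univ.filter fun g : G => ¬ p ∣ orderOf g, F g) +
      (Nat.card G : ℂ) / (2 * (Nat.card ↥(P : Subgroup G) : ℂ)) *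
        ∑ x ∈ Finset.univ.filter (fun x : G => x ∈ (P : Subgroup G) ∧ x ≠ 1), avgAt p F x := by
  set S : G → Finset G := fun x => Finset.univ.filter fun g => IsConj (g ^ e) x
  set T := Finset.univ.filter (fun x : G => x ∈ (P : Subgroup G) ∧ x ≠ 1)
  have hsec : ∀ x ∈ T, ∑ g ∈ S x, F g =
      (Nat.card G : ℂ) / (Nat.card ↥(P : Subgroup G) : ℂ) * avgAt p F x := by
    intro x hx
    obtain ⟨hxP, hx1⟩ := (Finset.mem_filter.mp hx).2
    obtain ⟨k, hk⟩ := IsPGroup.iff_orderOf.mp P.2 ⟨x, hxP⟩
    rw [Subgroup.orderOf_mk] at hk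
    have h := CharCore.BlockSections.sum_one_section hp.out hF ⟨k, hk⟩ (S x) fun g => by
      simp only [S, Finset.mem_filter, Finset.mem_univ, true_and]
      exact ⟨fun hg => ⟨_, he.isPPart g, hg⟩, fun ⟨z, hz, hzx⟩ => by rwa [he.pow_of_isPPart hz]⟩
    have hr : (regCent p x).card = (Finset.univ.filter
        fun s : ↥(Subgroup.centralizer ({x} : Set G)) => ¬ p ∣ orderOf s).card := rfl
    rw [H.card_centralizer hxP hx1, Nat.cast_mul] at h
    have hP : (Nat.card ↥(P : Subgroup G) : ℂ) ≠ 0 := Nat.cast_ne_zero.mpr Nat.card_pos.ne'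
    have hr0 := regCent_card_ne_zero (p := p) x
    rw [avgAt]
    simp only [regCent] at hr hr0 ⊢
    field_simp
    linear_combination h
  have hdouble : ∑ x ∈ T, ∑ g ∈ S x, F g =
      2 * ∑ g ∈ Finset.univ.filter (fun g : G => p ∣ orderOf g), F g := by
    simp only [S, Finset.sum_filter]
    rw [Finset.sum_comm, Finset.mul_sum]
    refine Finset.sum_congr rfl fun g _ => ?_
    rw [← Finset.sum_filter, Finset.sum_const, nsmul_eq_mul]
    by_cases hg : p ∣ orderOf g
    · obtain ⟨x, hx⟩ := exists_conj_mem P he g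
      have hx1 : (x : G) ≠ 1 := fun h => by
        rw [h] at hx
        exact (he.pow_eq_one_iff g).mp (isConj_one_right.mp hx.symm) hg
      have hset : T.filter (fun y => IsConj (g ^ e) y) = {(x : G), (x : G)⁻¹} := by
        ext y
        simp only [T, Finset.mem_filter, Finset.mem_univ, true_and, Finset.mem_insert,
          Finset.mem_singleton]
        constructor
        · rintro ⟨⟨hy, -⟩, hc⟩
          exact H.eq_or_eq_inv x.2 hy (hx.symm.trans hc)
        · rintro (rfl | rfl)
          · exact ⟨⟨x.2, hx1⟩, hx⟩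
          · exact ⟨⟨inv_mem x.2, inv_ne_one.mpr hx1⟩, hx.trans (H.isConj_inv x.2)⟩
      rw [hset, Finset.card_pair (H.sq_ne_one x.2 hx1).symm, if_pos hg]
      norm_num
    · rw [if_neg hg, mul_zero, Finset.card_eq_zero.mpr ?_, Nat.cast_zero, zero_mul]
      refine Finset.filter_eq_empty_iff.mpr fun {y} hy hc => (Finset.mem_filter.mp hy).2.2 ?_
      rw [he.pow_eq_one_of_regular hg] at hc
      exact isConj_one_right.mp hc
  rw [Finset.sum_congr rfl hsec, ← Finset.mul_sum] at hdouble
  rw [← Finset.sum_filter_add_sum_filter_not Finset.univ (fun g : G => p ∣ orderOf g), add_comm]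
  congr 1
  linear_combination (-1 / 2 : ℂ) * hdouble

open scoped Classical in
theorem classInner_eq (he : IsPExp p G e) {F F' : G → ℂ} (hF : IsClassFunction G F)
    (hF' : IsClassFunction G F') :
    classInner F F' = (Nat.card G : ℂ)⁻¹ *
        (∑ g ∈ Finset.univ.filter fun g : G => ¬ p ∣ orderOf g, F g * conj (F' g)) +
      (2 * (Nat.card ↥(P : Subgroup G) : ℂ))⁻¹ *
        ∑ x ∈ Finset.univ.filter (fun x : G => x ∈ (P : Subgroup G) ∧ x ≠ 1),
          avgAt p (fun g => F g * conj (F' g)) x := by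
  rw [CharCore.classInner_def, H.sum_eq he (F := fun g => F g * conj (F' g))
    (fun g h => by simp only [hF g h, hF' g h])]
  have : (Nat.card G : ℂ) ≠ 0 := Nat.cast_ne_zero.mpr Nat.card_pos.ne'
  field_simp

end Hyp

end Cfsg.Agent.InertTwo
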