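import Cfsg.Agent.InertTwo.Cocycle
import Cfsg.Agent.InertTwo.Setting
import Cfsg.Agent.Lib.CharClifford.Central
import Cfsg.Agent.Lib.CharCore.Linear
import Mathlib.Analysis.SpecialFunctions.Complex.CircleAddChar

/-!
A central extension of `G` by `ZMod p` whose Sylow `p`-subgroup is nonabelian, and the generalized
character supported on the sections of the centre of that subgroup.
-/

set_option autoImplicit false
set_option linter.unusedSectionVars false

open Cfsg
open scoped ComplexConjugate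

namespace Cfsg.Agent.InertTwo

universe u

variable {p : ℕ} [hp : Fact p.Prime] {G : Type u} [Group G] [Fintype G]

/-- Two independent homomorphisms of a subgroup to `ZMod p`. -/
structure TwoForms (p : ℕ) {G : Type u} [Group G] (P : Subgroup G) where
  /-- first coordinate -/
  a : P → ZMod p
  /-- second coordinate -/
  b : P → ZMod p
  a_mul : ∀ x y, a (x * y) = a x + a y
  b_mul : ∀ x y, b (x * y) = b x + b y
  /-- a basis vector -/
  u : P
  /-- a basis vector -/
  v : P
  au : a u = 1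
  bu : b u = 0
  av : a v = 0
  bv : b v = 1

namespace TwoForms

variable {P : Subgroup G} (F : TwoForms p P)

theorem a_one : F.a 1 = 0 := by simpa using F.a_mul 1 1
theorem b_one : F.b 1 = 0 := by simpa using F.b_mul 1 1

theorem a_inv (x : P) : F.a x⁻¹ = -F.a x := by
  have := F.a_mul x⁻¹ x
  rw [inv_mul_cancel, F.a_one] at this
  linear_combination -this

theorem b_inv (x : P) : F.b x⁻¹ = -F.b x := by
  have := F.b_mul x⁻¹ x
  rw [inv_mul_cancel, F.b_one] at this
  linear_combination -this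

/-- The common kernel of the two forms, inside `G`. -/
def rad : Subgroup G where
  carrier := {x | ∃ h : x ∈ P, F.a ⟨x, h⟩ = 0 ∧ F.b ⟨x, h⟩ = 0}
  one_mem' := ⟨one_mem P, F.a_one, F.b_one⟩
  mul_mem' := by
    rintro x y ⟨hx, hxa, hxb⟩ ⟨hy, hya, hyb⟩
    exact ⟨mul_mem hx hy, (F.a_mul ⟨x, hx⟩ ⟨y, hy⟩).trans (by rw [hxa, hya, add_zero]),
      (F.b_mul ⟨x, hx⟩ ⟨y, hy⟩).trans (by rw [hxb, hyb, add_zero])⟩
  inv_mem' := by
    rintro x ⟨hx, hxa, hxb⟩
    exact ⟨inv_mem hx, (F.a_inv ⟨x, hx⟩).trans (by rw [hxa, neg_zero]),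
      (F.b_inv ⟨x, hx⟩).trans (by rw [hxb, neg_zero])⟩

theorem rad_le : F.rad ≤ P := fun _ h => h.1

theorem card_rad [Fintype P] : Nat.card P = p * p * Nat.card F.rad := by
  let φ : P →* Multiplicative (ZMod p × ZMod p) :=
    MonoidHom.mk' (fun x => Multiplicative.ofAdd (F.a x, F.b x)) fun x y => by
      rw [F.a_mul, F.b_mul, ← ofAdd_add, Prod.mk_add_mk]
  have hpow : ∀ (w : P) (n : ℕ), F.a (w ^ n) = n * F.a w ∧ F.b (w ^ n) = n * F.b w := by
    intro w n
    induction n with
    | zero => simp [F.a_one, F.b_one]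
    | succ n ih =>
      rw [pow_succ, F.a_mul, F.b_mul, ih.1, ih.2]
      push_cast
      exact ⟨by ring, by ring⟩
  have hsurj : Function.Surjective φ := by
    intro z
    refine ⟨F.u ^ (Multiplicative.toAdd z).1.val * F.v ^ (Multiplicative.toAdd z).2.val, ?_⟩
    show Multiplicative.ofAdd _ = z
    rw [F.a_mul, F.b_mul, (hpow F.u _).1, (hpow F.v _).1, (hpow F.u _).2, (hpow F.v _).2,
      F.au, F.av, F.bu, F.bv]
    simp
  have hker : φ.ker = F.rad.subgroupOf P := by
    ext x
    rw [MonoidHom.mem_ker, Subgroup.mem_subgroupOf]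
    show Multiplicative.ofAdd (F.a x, F.b x) = 1 ↔ _
    rw [ofAdd_eq_one, Prod.mk_eq_zero]
    exact ⟨fun h => ⟨x.2, h⟩, fun ⟨_, h⟩ => h⟩
  have h := Subgroup.card_mul_index φ.ker
  rw [Subgroup.index_ker, MonoidHom.range_eq_top.mpr hsurj, Subgroup.card_top, hker,
    Nat.card_congr (Subgroup.subgroupOfEquivOfLe F.rad_le).toEquiv] at h
  rw [← h, mul_comm]
  simp [Nat.card_prod, Nat.card_congr Multiplicative.toAdd]

/-- The transferred cocycle. -/
noncomputable def cocycle : Cocycle p G :=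
  haveI := Fintype.ofFinite (G ⧸ P)
  transferred P F.a_mul F.b_mul

/-- The cover. -/
abbrev Cover : Type u := Ext F.cocycle

noncomputable instance : Fintype F.Cover := Fintype.ofFinite _

end TwoForms

variable {P : Sylow p G} {t : G} (H : Hyp P t) (F : TwoForms p (P : Subgroup G))
include H

theorem two_ne_zero' : (2 : ZMod p) ≠ 0 := fun h => H.odd (by
  have h2 : ((2 : ℕ) : ZMod p) = 0 := by exact_mod_cast h
  exact (Nat.prime_dvd_prime_iff_eq hp.out Nat.prime_two).mp
    ((ZMod.natCast_eq_zero_iff _ _).mp h2))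

theorem cocycle_commutator (x y : ↥(P : Subgroup G)) :
    F.cocycle.toFun x y - F.cocycle.toFun y x =
      ((P : Subgroup G).index : ZMod p) * (F.a x * F.b y - F.a y * F.b x) := by
  let := Fintype.ofFinite (G ⧸ (P : Subgroup G))
  refine transferred_commutator _ ⟨⟨fun a b => Subtype.ext (H.comm a a.2 b b.2)⟩⟩ F.a_mul F.b_mul
    (fun g s w s' w' hs' hw' => ?_) x y
  have key : ∀ r r' : ↥(P : Subgroup G), (r' : G) = g⁻¹ * r * g → r' = r ∨ r' = r⁻¹ := fun r r' h =>
    (H.eq_or_eq_inv r.2 r'.2 (isConj_iff.mpr ⟨g⁻¹, by rw [inv_inv]; exact h.symm⟩)).imp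
      Subtype.ext fun h' => Subtype.ext h'
  have hsq : ∀ r : ↥(P : Subgroup G), r * r = 1 → r = 1 := fun r h => by
    by_contra hr
    exact H.sq_ne_one r.2 (fun h' => hr (Subtype.ext h'))
      (congrArg Subtype.val (inv_eq_of_mul_eq_one_right h))
  have hsw : (((s' * w' : ↥(P : Subgroup G))) : G) = g⁻¹ * ((s * w : ↥(P : Subgroup G)) : G) * g := by
    rw [Subgroup.coe_mul, Subgroup.coe_mul, hs', hw']; group
  have hc : s * w = w * s := Subtype.ext (H.comm s s.2 w w.2)
  rcases key s s' hs' with e1 | e1 <;> rcases key w w' hw' with e2 | e2 <;> rw [e1, e2] at hsw ⊢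
  · rcases key _ _ hsw with h | h
    · have : w * w = 1 := by
        have h1 : w⁻¹ = w := mul_left_cancel h
        nth_rw 1 [← h1]; exact inv_mul_cancel w
      rw [hsq w this]; simp [F.b_one]
    · have : s * s = 1 := by
        rw [hc, mul_inv_rev] at h
        have h2 := mul_right_cancel (b := w⁻¹) h
        nth_rw 1 [h2]; exact inv_mul_cancel s
      rw [hsq s this]; simp [F.a_one]
  · rcases key _ _ hsw with h | h
    · have : s * s = 1 := by
        have h1 : s⁻¹ = s := mul_right_cancel h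
        nth_rw 1 [← h1]; exact inv_mul_cancel s
      rw [hsq s this]; simp [F.a_one]
    · have : w * w = 1 := by
        rw [hc, mul_inv_rev] at h
        have h2 := mul_left_cancel h
        nth_rw 1 [h2]; exact inv_mul_cancel w
      rw [hsq w this]; simp [F.b_one]
  · rw [F.a_inv, F.b_inv]; ring

/-- The Sylow subgroup of the cover. -/
theorem exists_sylow_cover : ∃ Q : Sylow p F.Cover,
    (Q : Subgroup F.Cover) = (P : Subgroup G).comap (Ext.proj F.cocycle) := by
  have hker : IsPGroup p (Ext.proj F.cocycle).ker := fun x => ⟨1, by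
    have h : Ext.kerCoord F.cocycle (x ^ p ^ 1) = 1 := by
      rw [map_pow, pow_one, ← ofAdd_toAdd (Ext.kerCoord F.cocycle x ^ p), toAdd_pow, nsmul_eq_mul,
        ZMod.natCast_self, zero_mul, ofAdd_zero]
    exact Subtype.ext (Ext.ext (by simpa [Ext.kerCoord, Ext.one_def] using h)
      (Ext.mem_ker.mp (x ^ p ^ 1).2))⟩
  have hQ : IsPGroup p ↥((P : Subgroup G).comap (Ext.proj F.cocycle)) :=
    P.2.comap_of_ker_isPGroup _ hker
  refine ⟨hQ.toSylow ?_, rfl⟩
  rw [Subgroup.index_comap_of_surjective _ Ext.proj_surjective]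
  exact P.not_dvd_index

/-- The lift of the inverting element. -/
noncomputable def liftT (t : G) : F.Cover := ⟨0, t⟩

theorem comm_of_rad {y w : F.Cover} (hy : y.g ∈ F.rad) (hw : w.g ∈ (P : Subgroup G)) :
    y * w = w * y := by
  obtain ⟨hyP, ha, hb⟩ := hy
  refine Ext.ext ?_ (H.comm _ hyP _ hw)
  have h := cocycle_commutator H F ⟨y.g, hyP⟩ ⟨w.g, hw⟩
  rw [ha, hb] at h
  show y.z + w.z + F.cocycle.toFun y.g w.g = w.z + y.z + F.cocycle.toFun w.g y.g
  linear_combination h

/-- An element over the centralizer of `π y` centralizes `y`, for `π y` in the radical. -/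
theorem conj_eq_self {y : F.Cover} (hy : y.g ∈ F.rad) {g : F.Cover}
    (hg : g.g * y.g = y.g * g.g) : g * y * g⁻¹ = y := by
  set D : Subgroup F.Cover := (Subgroup.centralizer ({y.g} : Set G)).comap (Ext.proj F.cocycle)
  have hmem : ∀ d : D, (d : F.Cover) * y * (d : F.Cover)⁻¹ * y⁻¹ ∈ (Ext.proj F.cocycle).ker := fun d => by
    have hd : (d : F.Cover).g * y.g = y.g * (d : F.Cover).g :=
      Subgroup.mem_centralizer_singleton_iff.mp d.2
    rw [MonoidHom.mem_ker, map_mul, map_mul, map_mul, map_inv, map_inv]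
    show (d : F.Cover).g * y.g * (d : F.Cover).g⁻¹ * y.g⁻¹ = 1
    rw [hd, mul_inv_cancel_right, mul_inv_cancel]
  let χ : D →* (Ext.proj F.cocycle).ker :=
    MonoidHom.mk' (fun d => ⟨_, hmem d⟩) fun c d => Subtype.ext (by
      have hz := Subgroup.mem_center_iff.mp (Ext.ker_le_center (hmem d)) (c : F.Cover)
      show (c * d : F.Cover) * y * (c * d : F.Cover)⁻¹ * y⁻¹ = _
      calc (c * d : F.Cover) * y * (c * d : F.Cover)⁻¹ * y⁻¹
          = (c : F.Cover) * ((d : F.Cover) * y * (d : F.Cover)⁻¹ * y⁻¹) * (y * (c : F.Cover)⁻¹ * y⁻¹) := by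
            group
        _ = ((d : F.Cover) * y * (d : F.Cover)⁻¹ * y⁻¹) * (c : F.Cover) * (y * (c : F.Cover)⁻¹ * y⁻¹) := by
            rw [hz]
        _ = _ := by
            have hz' := Subgroup.mem_center_iff.mp (Ext.ker_le_center (hmem c))
              ((d : F.Cover) * y * (d : F.Cover)⁻¹ * y⁻¹)
            show _ = ((c : F.Cover) * y * (c : F.Cover)⁻¹ * y⁻¹) *
              ((d : F.Cover) * y * (d : F.Cover)⁻¹ * y⁻¹)
            rw [← hz']
            group)
  obtain ⟨Q, hQ⟩ := exists_sylow_cover H F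
  have hQD : (Q : Subgroup F.Cover) ≤ D := by
    rw [hQ]
    exact Subgroup.comap_mono fun w hw =>
      Subgroup.mem_centralizer_singleton_iff.mpr (H.comm w hw _ (F.rad_le hy))
  have hQker : (Q : Subgroup F.Cover).subgroupOf D ≤ χ.ker := fun d hd => by
    rw [MonoidHom.mem_ker]
    refine Subtype.ext ?_
    show (d : F.Cover) * y * (d : F.Cover)⁻¹ * y⁻¹ = 1
    have hdP : (d : F.Cover).g ∈ (P : Subgroup G) := by
      have h : (d : F.Cover) ∈ (Q : Subgroup F.Cover) := hd
      rw [hQ] at h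
      exact h
    rw [← comm_of_rad H F hy hdP, mul_inv_cancel_right, mul_inv_cancel]
  have hdvd : Nat.card χ.range ∣ (Q : Subgroup F.Cover).index := by
    rw [← Subgroup.index_ker]
    exact (Subgroup.index_dvd_of_le hQker).trans
      ⟨D.index, (Subgroup.relIndex_mul_index hQD).symm⟩
  have hp' : Nat.card χ.range ∣ p := by
    refine (Subgroup.card_subgroup_dvd_card _).trans ?_
    have hc := Subgroup.card_mul_index (Ext.proj F.cocycle).ker
    rw [Subgroup.index_ker, MonoidHom.range_eq_top.mpr Ext.proj_surjective, Subgroup.card_top,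
      Ext.card] at hc
    exact ⟨1, by rw [mul_one]; exact (Nat.eq_of_mul_eq_mul_right Nat.card_pos hc).symm⟩
  have h1 : Nat.card χ.range = 1 := by
    rcases (Nat.dvd_prime hp.out).mp hp' with h | h
    · exact h
    · rw [h] at hdvd
      exact absurd hdvd Q.not_dvd_index
  have h2 : χ ⟨g, Subgroup.mem_centralizer_singleton_iff.mpr hg⟩ = 1 := by
    have := Subgroup.eq_bot_of_card_eq _ h1
    rw [MonoidHom.range_eq_bot_iff] at this
    rw [this]; rfl
  have h3 : g * y * g⁻¹ * y⁻¹ = 1 := congrArg Subtype.val h2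
  exact mul_inv_eq_one.mp h3

theorem conj_eq_liftT {y : F.Cover} (hy : y.g ∈ F.rad) {g : F.Cover}
    (hg : g.g * y.g * g.g⁻¹ = y.g⁻¹) : g * y * g⁻¹ = liftT F t * y * (liftT F t)⁻¹ := by
  have h1 : ((liftT F t)⁻¹ * g) * y * ((liftT F t)⁻¹ * g)⁻¹ = y := conj_eq_self H F hy (by
    show t⁻¹ * g.g * y.g = y.g * (t⁻¹ * g.g)
    have ht : t * y.g * t⁻¹ = y.g⁻¹ := H.inv _ (F.rad_le hy)
    calc t⁻¹ * g.g * y.g = t⁻¹ * (g.g * y.g * g.g⁻¹) * g.g := by group
      _ = t⁻¹ * (t * y.g * t⁻¹) * g.g := by rw [hg, ht]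
      _ = _ := by group)
  calc g * y * g⁻¹ = liftT F t * (((liftT F t)⁻¹ * g) * y * ((liftT F t)⁻¹ * g)⁻¹) * (liftT F t)⁻¹ := by
        group
    _ = _ := by rw [h1]

/-- The product of `y` with its image under the inverting element. -/
noncomputable def normZ (t : G) (y : F.Cover) : F.Cover := y * (liftT F t * y * (liftT F t)⁻¹)

theorem normZ_mem_ker {y : F.Cover} (hy : y.g ∈ F.rad) :
    normZ F t y ∈ (Ext.proj F.cocycle).ker := by
  rw [Ext.mem_ker]
  show y.g * (t * y.g * t⁻¹) = 1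
  rw [H.inv _ (F.rad_le hy), mul_inv_cancel]

theorem normZ_conj {y : F.Cover} (hy : y.g ∈ F.rad) :
    normZ F t (liftT F t * y * (liftT F t)⁻¹) = normZ F t y := by
  have h2 : (liftT F t * liftT F t) * y * (liftT F t * liftT F t)⁻¹ = y := by
    refine conj_eq_self H F hy ?_
    show t * t * y.g = y.g * (t * t)
    have ht : t * y.g * t⁻¹ = y.g⁻¹ := H.inv _ (F.rad_le hy)
    have ht' : t * y.g⁻¹ * t⁻¹ = y.g := by
      have := H.inv _ (inv_mem (F.rad_le hy))
      rwa [inv_inv] at this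
    calc t * t * y.g = t * (t * y.g * t⁻¹) * t := by group
      _ = (t * y.g⁻¹ * t⁻¹) * (t * t) := by rw [ht]; group
      _ = _ := by rw [ht']
  have hz := Subgroup.mem_center_iff.mp (Ext.ker_le_center (normZ_mem_ker H F hy)) y⁻¹
  unfold normZ at hz ⊢
  calc liftT F t * y * (liftT F t)⁻¹ *
        (liftT F t * (liftT F t * y * (liftT F t)⁻¹) * (liftT F t)⁻¹)
      = liftT F t * y * (liftT F t)⁻¹ * ((liftT F t * liftT F t) * y * (liftT F t * liftT F t)⁻¹) := by
        group
    _ = liftT F t * y * (liftT F t)⁻¹ * y := by rw [h2]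
    _ = y⁻¹ * (y * (liftT F t * y * (liftT F t)⁻¹)) * y := by group
    _ = _ := by rw [hz, inv_mul_cancel_right]

theorem normZ_mul {y w : F.Cover} (hy : y.g ∈ F.rad) (hw : w.g ∈ F.rad) :
    normZ F t (y * w) = normZ F t y * normZ F t w := by
  have hτy : (liftT F t * y * (liftT F t)⁻¹).g ∈ (P : Subgroup G) := by
    show t * y.g * t⁻¹ ∈ (P : Subgroup G)
    rw [H.inv _ (F.rad_le hy)]
    exact inv_mem (F.rad_le hy)
  have h := comm_of_rad H F hw hτy
  simp only [normZ]
  calc y * w * (liftT F t * (y * w) * (liftT F t)⁻¹)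
      = y * (w * (liftT F t * y * (liftT F t)⁻¹)) * (liftT F t * w * (liftT F t)⁻¹) := by group
    _ = y * ((liftT F t * y * (liftT F t)⁻¹) * w) * (liftT F t * w * (liftT F t)⁻¹) := by rw [h]
    _ = _ := by group

theorem normZ_z_ker {y : F.Cover} (hy : y ∈ (Ext.proj F.cocycle).ker) :
    (normZ F t y).z = 2 * y.z := by
  have hc := Subgroup.mem_center_iff.mp (Ext.ker_le_center hy) (liftT F t)
  rw [normZ, hc, mul_inv_cancel_right]
  show y.z + y.z + F.cocycle.toFun y.g y.g = 2 * y.z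
  rw [Ext.mem_ker.mp hy, F.cocycle.one_one]
  ring

open scoped Classical in
/-- `p` times the invariant extension of the faithful character of the centre, zero off the
preimage of the radical. -/
noncomputable def coverFun (t : G) (y : F.Cover) : ℂ :=
  if y.g ∈ F.rad then (p : ℂ) * ZMod.stdAddChar ((2 : ZMod p)⁻¹ * (normZ F t y).z) else 0

theorem coverFun_conj_of_mem {y y' g : F.Cover} (hy : y.g ∈ (P : Subgroup G))
    (hy' : y'.g ∈ (P : Subgroup G)) (hg : g * y * g⁻¹ = y') : coverFun F t y' = coverFun F t y := by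
  have hπ : g.g * y.g * g.g⁻¹ = y'.g := congrArg Ext.g hg
  rcases H.eq_or_eq_inv hy hy' (isConj_iff.mpr ⟨g.g, hπ⟩) with h | h
  · by_cases hr : y.g ∈ F.rad
    · rw [h] at hπ
      rw [← hg, conj_eq_self H F hr (mul_inv_eq_iff_eq_mul.mp hπ)]
    · simp only [coverFun, h, hr, if_false]
  · by_cases hr : y.g ∈ F.rad
    · rw [h] at hπ
      rw [← hg, conj_eq_liftT H F hr hπ]
      have : (liftT F t * y * (liftT F t)⁻¹).g ∈ F.rad := by
        show t * y.g * t⁻¹ ∈ F.rad
        rw [H.inv _ hy]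
        exact inv_mem hr
      simp only [coverFun, this, hr, if_true, normZ_conj H F hr]
    · have : y'.g ∉ F.rad := fun h' => hr (by rw [← inv_inv y.g, ← h]; exact inv_mem h')
      simp only [coverFun, this, hr, if_false]

/-- A nonlinear constituent: the commutator of the lifts of the basis vectors. -/
theorem commutator_lift :
    (⟨0, (F.u : G)⟩ : F.Cover) * ⟨0, (F.v : G)⟩ * (⟨0, (F.u : G)⟩ : F.Cover)⁻¹ *
      (⟨0, (F.v : G)⟩ : F.Cover)⁻¹ = ⟨((P : Subgroup G).index : ZMod p), 1⟩ := by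
  rw [mul_assoc, ← mul_inv_rev, mul_inv_eq_iff_eq_mul]
  refine Ext.ext ?_ ?_
  · show 0 + 0 + F.cocycle.toFun F.u F.v =
      ((P : Subgroup G).index : ZMod p) + (0 + 0 + F.cocycle.toFun F.v F.u) + F.cocycle.toFun 1 _
    have h := cocycle_commutator H F F.u F.v
    rw [F.au, F.av, F.bu, F.bv] at h
    rw [F.cocycle.one_left]
    linear_combination h
  · show (F.u : G) * F.v = 1 * ((F.v : G) * F.u)
    rw [one_mul]
    exact H.comm _ F.u.2 _ F.v.2

theorem isGeneralizedCharacter_coverFun (Q : Sylow p F.Cover)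
    (hQ : (Q : Subgroup F.Cover) = (P : Subgroup G).comap (Ext.proj F.cocycle)) :
    IsGeneralizedCharacter ↥(Q : Subgroup F.Cover) (fun y => coverFun F t (y : F.Cover)) := by
  classical
  haveI : NeZero p := ⟨hp.out.ne_zero⟩
  have := Fintype.ofFinite ↥(Q : Subgroup F.Cover)
  have hmemP : ∀ y : ↥(Q : Subgroup F.Cover), (y : F.Cover).g ∈ (P : Subgroup G) := fun y => by
    exact hQ.le y.2
  rw [CharCore.isGeneralizedCharacter_iff]
  refine ⟨fun y g => coverFun_conj_of_mem H F (hmemP _) (hmemP _) rfl, fun α => ?_⟩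
  let K : Subgroup ↥(Q : Subgroup F.Cover) :=
    (F.rad.comap (Ext.proj F.cocycle)).subgroupOf (Q : Subgroup F.Cover)
  have hKc : K ≤ Subgroup.center _ := fun y hy => Subgroup.mem_center_iff.mpr fun w =>
    Subtype.ext (comm_of_rad H F hy (hmemP w)).symm
  have hα1 := CharCore.irr_apply_one_ne_zero α
  -- the linear character of `K` by which `α` acts
  have hν : ∀ r : K, ∃ c : ℂ, ‖c‖ = 1 ∧
      ∀ x, (α : ↥(Q : Subgroup F.Cover) → ℂ) ((r : ↥(Q : Subgroup F.Cover)) * x) =
        c * (α : ↥(Q : Subgroup F.Cover) → ℂ) x := fun r =>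
    CharB.exists_scalar_mul_of_central α.2 (hKc r.2)
  choose ν hν1 hν using hν
  have hνmul : ∀ r s, ν (r * s) = ν r * ν s := fun r s => by
    have h := hν (r * s) 1
    rw [Subgroup.coe_mul, mul_assoc, hν, hν, ← mul_assoc] at h
    exact (mul_right_cancel₀ hα1 h).symm
  let ι : K → ℂ := fun r =>
    ZMod.stdAddChar ((2 : ZMod p)⁻¹ * (normZ F t ((r : ↥(Q : Subgroup F.Cover)) : F.Cover)).z)
  have hιmul : ∀ r s, ι (r * s) = ι r * ι s := fun r s => by
    simp only [ι, Subgroup.coe_mul]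
    rw [normZ_mul H F (y := ((r : ↥(Q : Subgroup F.Cover)) : F.Cover))
      (w := ((s : ↥(Q : Subgroup F.Cover)) : F.Cover)) r.2 s.2, ← AddChar.map_add_eq_mul]
    congr 1
    show _ * (_ + _ + F.cocycle.toFun _ _) = _
    rw [Ext.mem_ker.mp (normZ_mem_ker H F (y := ((r : ↥(Q : Subgroup F.Cover)) : F.Cover)) r.2),
      F.cocycle.one_left]
    ring
  obtain ⟨d, hd0, hddvd, hd⟩ := CharClifford.exists_degree_dvd_card α.2
  -- the inner product
  have hval : classInner (fun y : ↥(Q : Subgroup F.Cover) => coverFun F t (y : F.Cover))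
      (α : ↥(Q : Subgroup F.Cover) → ℂ) =
      (Nat.card ↥(Q : Subgroup F.Cover) : ℂ)⁻¹ * ((p : ℂ) * d * ∑ r : K, ι r * conj (ν r)) := by
    rw [CharCore.classInner_def, Finset.mul_sum Finset.univ (fun r : K => ι r * conj (ν r)) ((p : ℂ) * d)]
    congr 1
    have hz : ∀ y : ↥(Q : Subgroup F.Cover), y ∉ K → coverFun F t (y : F.Cover) = 0 := fun y hy => by
      rw [coverFun, if_neg]
      exact hy
    rw [← Finset.sum_subset (Finset.subset_univ (Finset.univ.filter fun y => y ∈ K)) fun y _ hy => by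
      rw [hz y fun h => hy (Finset.mem_filter.mpr ⟨Finset.mem_univ _, h⟩), zero_mul]]
    symm
    refine Finset.sum_bij (fun r _ => (r : ↥(Q : Subgroup F.Cover))) ?_ ?_ ?_ ?_
    · exact fun r _ => Finset.mem_filter.mpr ⟨Finset.mem_univ _, r.2⟩
    · exact fun r _ s _ h => Subtype.ext h
    · exact fun y hy => ⟨⟨y, (Finset.mem_filter.mp hy).2⟩, Finset.mem_univ _, rfl⟩
    · intro r _
      have h1 : (α : ↥(Q : Subgroup F.Cover) → ℂ) r = ν r * d := by
        have := hν r 1
        rwa [mul_one, hd] at this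
      rw [coverFun, if_pos (show ((r : ↥(Q : Subgroup F.Cover)) : F.Cover).g ∈ F.rad from r.2), h1,
        (starRingEnd ℂ).map_mul, Complex.conj_natCast]
      ring
  by_cases hall : ∀ r, ι r * conj (ν r) = 1
  · -- then the degree is a multiple of `p`
    have hpd : p ∣ d := by
      obtain ⟨k, hk⟩ := IsPGroup.iff_card.mp Q.2
      rcases (Nat.dvd_prime_pow hp.out).mp (hk ▸ hddvd) with ⟨j, -, hj⟩
      rcases Nat.eq_zero_or_pos j with rfl | hj0
      · exfalso
        rw [pow_zero] at hj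
        subst hj
        obtain ⟨f, hf⟩ := CharCore.IsCharacter.exists_hom_of_degree_one (CharCore.irr_isCharacter α)
          (by rw [hd, Nat.cast_one])
        have hu : (⟨0, (F.u : G)⟩ : F.Cover) ∈ (Q : Subgroup F.Cover) := by rw [hQ]; exact F.u.2
        have hv : (⟨0, (F.v : G)⟩ : F.Cover) ∈ (Q : Subgroup F.Cover) := by rw [hQ]; exact F.v.2
        set U : ↥(Q : Subgroup F.Cover) := ⟨_, hu⟩
        set W : ↥(Q : Subgroup F.Cover) := ⟨_, hv⟩
        have hzK : U * W * U⁻¹ * W⁻¹ ∈ K := by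
          show ((⟨0, (F.u : G)⟩ : F.Cover) * ⟨0, (F.v : G)⟩ * (⟨0, (F.u : G)⟩ : F.Cover)⁻¹ *
            (⟨0, (F.v : G)⟩ : F.Cover)⁻¹).g ∈ F.rad
          rw [commutator_lift H F]
          exact one_mem _
        have hfz : (α : ↥(Q : Subgroup F.Cover) → ℂ) (U * W * U⁻¹ * W⁻¹) = 1 := by
          rw [hf]
          simp [map_mul, map_inv, mul_comm]
        have hr := hν ⟨_, hzK⟩ 1
        rw [mul_one, hd, Nat.cast_one, mul_one] at hr
        rw [hfz] at hr
        have h1 := hall ⟨_, hzK⟩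
        rw [← hr, map_one, mul_one] at h1
        simp only [ι] at h1
        have hzz : ((U * W * U⁻¹ * W⁻¹ : ↥(Q : Subgroup F.Cover)) : F.Cover) =
            ⟨((P : Subgroup G).index : ZMod p), 1⟩ := commutator_lift H F
        rw [hzz, normZ_z_ker H F (Ext.mem_ker.mpr rfl), ← mul_assoc,
          inv_mul_cancel₀ (two_ne_zero' H), one_mul,
          ← (ZMod.stdAddChar (N := p)).map_zero_eq_one,
          (ZMod.injective_stdAddChar (N := p)).eq_iff, ZMod.natCast_eq_zero_iff] at h1
        exact P.not_dvd_index h1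
      · exact hj ▸ dvd_pow_self p hj0.ne'
    obtain ⟨d', rfl⟩ := hpd
    refine ⟨d', ?_⟩
    rw [hval, Finset.sum_congr rfl fun r _ => hall r, Finset.sum_const, Finset.card_univ,
      nsmul_eq_mul, mul_one, ← Nat.card_eq_fintype_card]
    have hcard : Nat.card ↥(Q : Subgroup F.Cover) = p * p * Nat.card K := by
      have : Fintype ↥(P : Subgroup G) := Fintype.ofFinite _
      have hK : Nat.card K = p * Nat.card F.rad := by
        have e1 : Nat.card K = Nat.card ↥(F.rad.comap (Ext.proj F.cocycle)) :=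
          Nat.card_congr (Subgroup.subgroupOfEquivOfLe (hQ ▸ Subgroup.comap_mono F.rad_le)).toEquiv
        have e2 := Subgroup.card_mul_index (F.rad.comap (Ext.proj F.cocycle))
        rw [Subgroup.index_comap_of_surjective _ Ext.proj_surjective, Ext.card,
          ← Subgroup.card_mul_index F.rad, ← mul_assoc] at e2
        rw [e1]
        exact Nat.eq_of_mul_eq_mul_right (Nat.pos_of_ne_zero Subgroup.index_ne_zero_of_finite) e2
      have e3 := Subgroup.card_mul_index (Q : Subgroup F.Cover)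
      rw [hQ, Subgroup.index_comap_of_surjective _ Ext.proj_surjective, Ext.card,
        ← Subgroup.card_mul_index (P : Subgroup G), F.card_rad, ← mul_assoc] at e3
      rw [Nat.card_congr (MulEquiv.subgroupCongr hQ).toEquiv,
        Nat.eq_of_mul_eq_mul_right (Nat.pos_of_ne_zero Subgroup.index_ne_zero_of_finite) e3, hK]
      ring
    rw [hcard]
    push_cast
    have hK0 : (Nat.card K : ℂ) ≠ 0 := Nat.cast_ne_zero.mpr Nat.card_pos.ne'
    have hp0 : (p : ℂ) ≠ 0 := Nat.cast_ne_zero.mpr hp.out.ne_zero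
    field_simp
  · refine ⟨0, ?_⟩
    push Not at hall
    obtain ⟨r₁, hr₁⟩ := hall
    have h0 : ∑ r : K, ι r * conj (ν r) = 0 := by
      by_contra hne
      refine hr₁ (mul_right_cancel₀ hne ?_)
      rw [one_mul, Finset.mul_sum]
      refine Fintype.sum_equiv (Equiv.mulLeft r₁) _ _ fun r => ?_
      simp only [Equiv.coe_mulLeft, hιmul, hνmul, map_mul]
      ring
    rw [hval, h0]
    simp

end Cfsg.Agent.InertTwo
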