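import Cfsg.Agent.InertTwo.Setting
import Cfsg.Agent.OddChar.SignedIrr
import Cfsg.Agent.Lib.CharCore.Linear
import Cfsg.Agent.Lib.CharCore.Complete
import Cfsg.Agent.CharB.CentralExt

/-!
The decomposition of the generalized characters lifted from the functions `l + l⁻¹ - 2`.
-/

set_option autoImplicit false
set_option linter.unusedSectionVars false

open Cfsg Cfsg.Agent.OddChar
open scoped ComplexConjugate

namespace Cfsg.Agent.InertTwo

universe u

section Comm

variable {A : Type u} [Group A] [Fintype A]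

/-- The virtual character `l + l⁻¹ - 2` of a linear character. -/
noncomputable def theta (l : A →* ℂˣ) : A → ℂ := fun x => (l x : ℂ) + (l x⁻¹ : ℂ) - 2

theorem theta_inv (l : A →* ℂˣ) (x : A) : theta l x⁻¹ = theta l x := by
  simp only [theta, inv_inv]; ring

theorem theta_one (l : A →* ℂˣ) : theta l 1 = 0 := by
  simp only [theta, inv_one, map_one, Units.val_one]; norm_num

theorem coe_inv_apply (l : A →* ℂˣ) (x : A) : ((l⁻¹ x : ℂˣ) : ℂ) = (l x⁻¹ : ℂ) := by
  rw [MonoidHom.inv_apply, map_inv]

theorem theta_eq (l : A →* ℂˣ) : theta l = (fun x => (l x : ℂ)) + (fun x => (l⁻¹ x : ℂ)) -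
    (2 : ℂ) • (fun x => ((1 : A →* ℂˣ) x : ℂ)) := by
  funext x
  simp [theta, map_inv]

theorem isGeneralizedCharacter_hom (l : A →* ℂˣ) :
    IsGeneralizedCharacter A (fun x => (l x : ℂ)) :=
  Coherence.irr_gen (CharCore.isIrrCharacter_hom l)

theorem isGeneralizedCharacter_theta (l : A →* ℂˣ) : IsGeneralizedCharacter A (theta l) := by
  rw [theta_eq]
  refine CharCore.isGeneralized_sub (CharCore.isGeneralized_add (isGeneralizedCharacter_hom l)
    (isGeneralizedCharacter_hom l⁻¹)) ?_
  have := CharCore.isGeneralized_intCast_smul (isGeneralizedCharacter_hom (1 : A →* ℂˣ)) 2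
  simpa using this

theorem classInner_hom [DecidableEq (A →* ℂˣ)] (l m : A →* ℂˣ) :
    classInner (fun x => (l x : ℂ)) (fun x => (m x : ℂ)) = if l = m then 1 else 0 := by
  split_ifs with h
  · subst h; exact (CharCore.isIrrCharacter_iff.mp (CharCore.isIrrCharacter_hom l)).2
  · refine CharCore.classInner_irr_of_ne (χ := ⟨_, CharCore.isIrrCharacter_hom l⟩)
      (ψ := ⟨_, CharCore.isIrrCharacter_hom m⟩) fun h' => h ?_
    exact MonoidHom.ext fun x => Units.ext (congrFun (congrArg Subtype.val h') x)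

theorem inv_hom_eq_one {l : A →* ℂˣ} : l⁻¹ = 1 ↔ l = 1 := by
  constructor <;> intro h <;> ext x
  · simpa using congrArg Units.val (DFunLike.congr_fun h x)
  · simp [h]

theorem one_eq_inv_hom {l : A →* ℂˣ} : 1 = l⁻¹ ↔ l = 1 := eq_comm.trans inv_hom_eq_one

theorem classInner_theta {l m : A →* ℂˣ} (hl : l ≠ 1) (hm : m ≠ 1) (h1 : l ≠ m) (h2 : l ≠ m⁻¹) :
    classInner (theta l) (theta m) = 4 := by
  classical
  have e1 : l⁻¹ ≠ m := fun h => h2 (MonoidHom.ext fun x => inv_eq_iff_eq_inv.mp (DFunLike.congr_fun h x))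
  have e2 : l⁻¹ ≠ m⁻¹ := fun h => h1 (MonoidHom.ext fun x => inv_injective (DFunLike.congr_fun h x))
  simp only [theta_eq, CharCore.classInner_add_left, CharCore.classInner_add_right,
    CharCore.classInner_sub_left, CharCore.classInner_sub_right, CharCore.classInner_smul_left,
    CharCore.classInner_smul_right, classInner_hom, h1, h2, e1, e2, hl, hm, inv_hom_eq_one, one_eq_inv_hom,
    Ne.symm hm, if_false, if_true]
  simp [map_ofNat]
  norm_num

theorem classInner_theta_self {l : A →* ℂˣ} (hl : l ≠ 1) (h2 : l ≠ l⁻¹) :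
    classInner (theta l) (theta l) = 6 := by
  classical
  simp only [theta_eq, CharCore.classInner_add_left, CharCore.classInner_add_right,
    CharCore.classInner_sub_left, CharCore.classInner_sub_right, CharCore.classInner_smul_left,
    CharCore.classInner_smul_right, classInner_hom, h2, h2.symm, hl, inv_hom_eq_one, one_eq_inv_hom,
    Ne.symm hl, if_false, if_true]
  simp [map_ofNat]
  norm_num

theorem classInner_theta_one {l : A →* ℂˣ} (hl : l ≠ 1) : classInner (theta l) 1 = -2 := by
  classical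
  rw [show (1 : A → ℂ) = fun x => ((1 : A →* ℂˣ) x : ℂ) by funext x; simp]
  simp only [theta_eq, CharCore.classInner_add_left, CharCore.classInner_sub_left,
    CharCore.classInner_smul_left, classInner_hom, hl, inv_hom_eq_one, if_false, if_true]
  norm_num

/-- A function whose Fourier coefficients are all equal vanishes off `1`. -/
theorem eq_zero_of_fourier_const (hA : ∀ a b : A, a * b = b * a) {h : A → ℂ}
    (hh : ∀ l : A →* ℂˣ, ∑ x, (l x : ℂ) * h x = ∑ x, h x) {x : A} (hx : x ≠ 1) : h x = 0 := by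
  classical
  have hcl : ∀ F : A → ℂ, IsClassFunction A F := fun F g k => by rw [hA k g, mul_inv_cancel_right]
  have key : h = fun y => if y = 1 then ∑ z, h z else 0 := by
    refine CharCore.classFunction_ext (hcl _) (hcl _) fun χ => ?_
    obtain ⟨l, hl⟩ := CharB.exists_hom_of_isIrr_comm hA χ.2
    have hconj : ∀ y, conj ((χ : A → ℂ) y) = (l⁻¹ y : ℂ) := fun y => by
      rw [← CharCore.irr_apply_inv, hl, coe_inv_apply]
    rw [CharCore.classInner_def, CharCore.classInner_def]
    congr 1
    simp only [hconj, ite_mul, zero_mul, Finset.sum_ite_eq', Finset.mem_univ, if_true, map_one,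
      Units.val_one, mul_one]
    rw [← hh l⁻¹]
    exact Finset.sum_congr rfl fun y _ => mul_comm _ _
  rw [key]
  exact if_neg hx

end Comm

variable {p : ℕ} [hp : Fact p.Prime] {G : Type u} [Group G] [Fintype G] {P : Sylow p G} {t : G}
  {e : ℕ}

/-- The lift of `l + l⁻¹ - 2`. -/
noncomputable def fOf (P : Sylow p G) (e : ℕ) (l : ↥(P : Subgroup G) →* ℂˣ) : G → ℂ :=
  lift (P : Subgroup G) e (theta l)

variable [Fintype ↥(P : Subgroup G)] (H : Hyp P t) (he : IsPExp p G e)
include H he

theorem isGeneralizedCharacter_fOf (l : ↥(P : Subgroup G) →* ℂˣ) :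
    IsGeneralizedCharacter G (fOf P e l) := by
  exact isGeneralizedCharacter_lift P he (H.isStable (theta_inv l)) (isGeneralizedCharacter_theta l)

theorem isClassFunction_fOf (l : ↥(P : Subgroup G) →* ℂˣ) : IsClassFunction G (fOf P e l) :=
  isClassFunction_lift (H.isStable (theta_inv l))

theorem fOf_regular (l : ↥(P : Subgroup G) →* ℂˣ) {g : G} (hg : ¬ p ∣ orderOf g) :
    fOf P e l g = 0 := by
  rw [fOf, lift_eq (H.isStable (theta_inv l)) (x := 1)
    (by rw [he.pow_eq_one_of_regular hg]; exact IsConj.refl _), theta_one]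

theorem fOf_section (l : ↥(P : Subgroup G) →* ℂˣ) (x : ↥(P : Subgroup G))
    {s : ↥(Subgroup.centralizer ({(x : G)} : Set G))} (hs : s ∈ regCent p (x : G)) :
    fOf P e l ((x : G) * (s : G)) = theta l x := by
  rw [fOf, lift_eq (H.isStable (theta_inv l))]
  rw [H.pow_mul_regCent he x.2 hs]

open scoped Classical in
/-- The inner product of a lift with a class function is read off from the averages. -/
theorem classInner_fOf (l : ↥(P : Subgroup G) →* ℂˣ) {F : G → ℂ}
    (hF : IsClassFunction G F) :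
    classInner (fOf P e l) F = (2 * (Nat.card ↥(P : Subgroup G) : ℂ))⁻¹ *
      ∑ x : ↥(P : Subgroup G), theta l x * conj (avgAt p F (x : G)) := by
  rw [H.classInner_eq he (isClassFunction_fOf H he l) hF]
  rw [Finset.sum_eq_zero (fun g hg => by
    rw [fOf_regular H he l (Finset.mem_filter.mp hg).2, zero_mul]), mul_zero, zero_add]
  congr 1
  have hrest : ∑ x ∈ Finset.univ.filter (fun x : ↥(P : Subgroup G) => (x : G) ≠ 1),
      theta l x * conj (avgAt p F (x : G)) = ∑ x, theta l x * conj (avgAt p F (x : G)) :=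
    Finset.sum_filter_of_ne fun x _ hne hx1 => hne (by
      rw [show x = 1 from Subtype.ext hx1, theta_one, zero_mul])
  rw [← hrest]
  symm
  refine Finset.sum_bij (fun x _ => (x : G)) ?_ ?_ ?_ ?_
  · intro x hx
    exact Finset.mem_filter.mpr ⟨Finset.mem_univ _, x.2, (Finset.mem_filter.mp hx).2⟩
  · intro x _ y _ h
    exact Subtype.ext h
  · intro g hg
    obtain ⟨h1, h2⟩ := (Finset.mem_filter.mp hg).2
    exact ⟨⟨g, h1⟩, Finset.mem_filter.mpr ⟨Finset.mem_univ _, h2⟩, rfl⟩
  · intro x _
    rw [avgAt, avgAt, map_mul, map_inv₀, map_natCast, map_sum, mul_left_comm, Finset.mul_sum]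
    congr 1
    exact Finset.sum_congr rfl fun s hs => by rw [fOf_section H he l x hs]

theorem classInner_fOf_fOf (l m : ↥(P : Subgroup G) →* ℂˣ) :
    classInner (fOf P e l) (fOf P e m) = classInner (theta l) (theta m) / 2 := by
  rw [classInner_fOf H he l (isClassFunction_fOf H he m), CharCore.classInner_def]
  have : ∀ x : ↥(P : Subgroup G), avgAt p (fOf P e m) (x : G) = theta m x := fun x =>
    avgAt_const fun s hs => fOf_section H he m x hs
  simp only [this]
  rw [mul_inv, mul_comm (2 : ℂ)⁻¹, mul_assoc, div_eq_inv_mul, mul_left_comm]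

theorem classInner_fOf_one (l : ↥(P : Subgroup G) →* ℂˣ) (hl : l ≠ 1) :
    classInner (fOf P e l) 1 = -1 := by
  rw [classInner_fOf H he l (fun _ _ => rfl)]
  have h1 : ∀ x : ↥(P : Subgroup G), avgAt p (1 : G → ℂ) (x : G) = 1 := fun x =>
    avgAt_const fun _ _ => rfl
  have h := classInner_theta_one hl
  rw [CharCore.classInner_def] at h
  simp only [Pi.one_apply, map_one, mul_one] at h
  simp only [h1, map_one, mul_one]
  rw [mul_inv, mul_assoc, h]
  norm_num

theorem hom_ne_inv {l : ↥(P : Subgroup G) →* ℂˣ} (hl : l ≠ 1) : l ≠ l⁻¹ := fun h => hl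
  (MonoidHom.ext fun x => by
    have h1 : l x * l x = 1 := mul_eq_one_iff_eq_inv.mpr (DFunLike.congr_fun h x)
    obtain ⟨k, hk⟩ := P.2 x
    have hodd : Odd (p ^ k) := (hp.out.odd_of_ne_two H.odd).pow
    obtain ⟨j, hj⟩ := hodd
    have h2 : l x ^ p ^ k = 1 := by rw [← map_pow, hk, map_one]
    rw [hj, pow_succ, pow_mul, sq, h1, one_pow, one_mul] at h2
    exact h2)

theorem classInner_fOf_self {l : ↥(P : Subgroup G) →* ℂˣ}
    (hl : l ≠ 1) : classInner (fOf P e l) (fOf P e l) = 3 := by
  rw [classInner_fOf_fOf H he, classInner_theta_self hl (hom_ne_inv H he hl)]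
  norm_num

end Cfsg.Agent.InertTwo
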