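import Cfsg.Agent.InertTwo.Decomp

/-!
All lifts share one irreducible constituent, and it is constant on the `p`-singular elements.
-/

set_option autoImplicit false
set_option linter.unusedSectionVars false

open Cfsg Cfsg.Agent.OddChar
open scoped ComplexConjugate

namespace Cfsg.Agent.InertTwo

universe u

variable {p : ℕ} [hp : Fact p.Prime] {G : Type u} [Group G] [Fintype G] {P : Sylow p G} {t : G}
  {e : ℕ}

section Vectors

theorem inner_symm_real {a b : G → ℂ} {k : ℤ} (h : classInner a b = k) : classInner b a = k := by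
  rw [← CharCore.conj_classInner, h, map_intCast]

/-- Bessel's inequality for orthonormal signed irreducibles inside a vector of norm two. -/
theorem bessel {ι : Type*} [DecidableEq ι] (s : Finset ι) {v : ι → G → ℂ} {k : ι → ℤ} {F : G → ℂ}
    (hF : IsGeneralizedCharacter G F) {n : ℤ} (hn : classInner F F = n)
    (hv : ∀ i ∈ s, IsSignedIrr (v i)) (ho : ∀ i ∈ s, ∀ j ∈ s, i ≠ j → classInner (v i) (v j) = 0)
    (hk : ∀ i ∈ s, classInner F (v i) = k i) :
    ∑ i ∈ s, k i * k i ≤ n ∧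
      (∑ i ∈ s, k i * k i = n → F = ∑ i ∈ s, (k i : ℂ) • v i) := by
  set S := ∑ i ∈ s, (k i : ℂ) • v i with hS
  have hRgen : IsGeneralizedCharacter G (F - S) :=
    Coherence.gen_sub hF (Coherence.gen_sum _ _ fun i hi => by
      rw [Int.cast_smul_eq_zsmul]
      exact Coherence.gen_zsmul (hv i hi).isGeneralizedCharacter _)
  have hFS : classInner F S = ((∑ i ∈ s, k i * k i : ℤ) : ℂ) := by
    rw [hS, CharCore.classInner_sum_right]
    push_cast
    refine Finset.sum_congr rfl fun i hi => ?_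
    rw [CharCore.classInner_smul_right, hk i hi, map_intCast]
  have hSS : classInner S S = ((∑ i ∈ s, k i * k i : ℤ) : ℂ) := by
    rw [hS, CharCore.classInner_sum_left]
    push_cast
    refine Finset.sum_congr rfl fun i hi => ?_
    rw [CharCore.classInner_smul_left, CharCore.classInner_sum_right, Finset.sum_eq_single i
      (fun j hj hji => by rw [CharCore.classInner_smul_right, ho i hi j hj (Ne.symm hji), mul_zero])
      (fun h => absurd hi h), CharCore.classInner_smul_right, signed_inner_self (hv i hi),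
      map_intCast, mul_one]
  have hR : classInner (F - S) (F - S) = ((n - ∑ i ∈ s, k i * k i : ℤ) : ℂ) := by
    rw [CharCore.classInner_sub_left, CharCore.classInner_sub_right, CharCore.classInner_sub_right,
      hn, hFS, hSS, inner_symm_real hFS]
    push_cast; ring
  obtain ⟨t, m, hm, hFS', hsq⟩ := gen_exists_support hRgen
  rw [hR] at hsq
  have h0 : n - ∑ i ∈ s, k i * k i = ∑ ψ ∈ t, m ψ * m ψ := by exact_mod_cast hsq
  have h1 : 0 ≤ ∑ ψ ∈ t, m ψ * m ψ := Finset.sum_nonneg fun ψ _ => mul_self_nonneg _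
  refine ⟨by omega, fun heq => ?_⟩
  have h2 : ∑ ψ ∈ t, m ψ * m ψ = 0 := by omega
  have ht : t = ∅ := Finset.eq_empty_of_forall_notMem fun ψ hψ => hm ψ hψ
    (mul_self_eq_zero.mp ((Finset.sum_eq_zero_iff_of_nonneg fun ψ _ => mul_self_nonneg _).mp h2 ψ hψ))
  rw [ht, Finset.sum_empty] at hFS'
  exact sub_eq_zero.mp hFS'

/-- A vector of norm two meeting three vectors `a + b i` once each contains `a`. -/
theorem has_center {F a b₁ b₂ b₃ : G → ℂ} (hF : IsGeneralizedCharacter G F)
    (hn : classInner F F = 2) (ha : IsSignedIrr a) (h₁ : IsSignedIrr b₁) (h₂ : IsSignedIrr b₂)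
    (h₃ : IsSignedIrr b₃) (o₁ : classInner a b₁ = 0) (o₂ : classInner a b₂ = 0)
    (o₃ : classInner a b₃ = 0) (o₁₂ : classInner b₁ b₂ = 0) (o₁₃ : classInner b₁ b₃ = 0)
    (o₂₃ : classInner b₂ b₃ = 0) (e₁ : classInner F (a + b₁) = 1) (e₂ : classInner F (a + b₂) = 1)
    (e₃ : classInner F (a + b₃) = 1) : classInner F a = 1 := by
  classical
  obtain ⟨k, hk⟩ := Coherence.inner_gen_int hF ha.isGeneralizedCharacter
  obtain ⟨k₁, hk₁⟩ := Coherence.inner_gen_int hF h₁.isGeneralizedCharacter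
  obtain ⟨k₂, hk₂⟩ := Coherence.inner_gen_int hF h₂.isGeneralizedCharacter
  obtain ⟨k₃, hk₃⟩ := Coherence.inner_gen_int hF h₃.isGeneralizedCharacter
  rw [CharCore.classInner_add_right, hk] at e₁ e₂ e₃
  rw [hk₁] at e₁
  rw [hk₂] at e₂
  rw [hk₃] at e₃
  have e₁' : k + k₁ = 1 := by exact_mod_cast e₁
  have e₂' : k + k₂ = 1 := by exact_mod_cast e₂
  have e₃' : k + k₃ = 1 := by exact_mod_cast e₃
  have hz : ∀ {x y : G → ℂ}, classInner x y = 0 → classInner y x = 0 := fun {x y} h => by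
    rw [← CharCore.conj_classInner, h, map_zero]
  have hb := (bessel (Finset.univ : Finset (Fin 4)) (v := ![a, b₁, b₂, b₃]) (k := ![k, k₁, k₂, k₃])
    hF (n := 2) (by rw [hn]; norm_num)
    (by intro i _; fin_cases i <;> assumption)
    (by
      intro i _ j _ hij
      fin_cases i <;> fin_cases j <;>
        first
          | exact absurd rfl hij
          | assumption
          | exact hz (by assumption))
    (by intro i _; fin_cases i <;> assumption)).1
  rw [Fin.sum_univ_four] at hb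
  simp at hb
  rw [hk]
  have : k = 1 := by
    obtain ⟨rfl, rfl, rfl⟩ : k₁ = 1 - k ∧ k₂ = 1 - k ∧ k₃ = 1 - k :=
      ⟨by omega, by omega, by omega⟩
    rcases le_or_gt k 0 with h | h
    · nlinarith
    · nlinarith
  simp [this]

end Vectors

variable [Fintype ↥(P : Subgroup G)] (H : Hyp P t) (he : IsPExp p G e)
include H he

/-- `f + 1`. -/
theorem shifted_spec {l : ↥(P : Subgroup G) →* ℂˣ} (hl : l ≠ 1) :
    IsGeneralizedCharacter G (fOf P e l + 1) ∧ classInner (fOf P e l + 1) (fOf P e l + 1) = 2 ∧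
      classInner (fOf P e l + 1) 1 = 0 := by
  have h1 : classInner (1 : G → ℂ) 1 = 1 :=
    (CharCore.isIrrCharacter_iff.mp CharCore.isIrrCharacter_one).2
  have h2 : classInner (1 : G → ℂ) (fOf P e l) = -1 := by
    rw [← CharCore.conj_classInner, classInner_fOf_one H he l hl, map_neg, map_one]
  refine ⟨Coherence.gen_add (isGeneralizedCharacter_fOf H he l) CharCore.isGeneralized_one, ?_, ?_⟩
  · rw [CharCore.classInner_add_left, CharCore.classInner_add_right, CharCore.classInner_add_right,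
      classInner_fOf_self H he hl, classInner_fOf_one H he l hl, h1, h2]
    norm_num
  · rw [CharCore.classInner_add_left, classInner_fOf_one H he l hl, h1]
    norm_num

theorem shifted_inner {l m : ↥(P : Subgroup G) →* ℂˣ} (hl : l ≠ 1) (hm : m ≠ 1) (h1 : l ≠ m)
    (h2 : l ≠ m⁻¹) : classInner (fOf P e l + 1) (fOf P e m + 1) = 1 := by
  have h11 : classInner (1 : G → ℂ) 1 = 1 :=
    (CharCore.isIrrCharacter_iff.mp CharCore.isIrrCharacter_one).2
  have h12 : classInner (1 : G → ℂ) (fOf P e m) = -1 := by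
    rw [← CharCore.conj_classInner, classInner_fOf_one H he m hm, map_neg, map_one]
  rw [CharCore.classInner_add_left, CharCore.classInner_add_right, CharCore.classInner_add_right,
    classInner_fOf_fOf H he, classInner_theta hl hm h1 h2, classInner_fOf_one H he l hl, h11, h12]
  norm_num

theorem fOf_inj {l m : ↥(P : Subgroup G) →* ℂˣ} (h : fOf P e l = fOf P e m) :
    ∀ x, theta l x = theta m x := by
  intro x
  have h2 := congrFun h (x : G)
  obtain ⟨k, hk⟩ := P.2 x
  have hx : IsConj ((x : G) ^ e) (x : G) := by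
    rw [he.pow_eq_of_pElem]
    obtain ⟨j, hj⟩ := IsPGroup.iff_orderOf.mp P.2 x
    exact ⟨j, by rw [Subgroup.orderOf_coe]; exact hj⟩
  rwa [fOf, fOf, lift_eq (H.isStable (theta_inv l)) hx, lift_eq (H.isStable (theta_inv m)) hx] at h2

theorem shifted_ne {l m : ↥(P : Subgroup G) →* ℂˣ} (hl : l ≠ 1) (hm : m ≠ 1) (h1 : l ≠ m)
    (h2 : l ≠ m⁻¹) : fOf P e l + 1 ≠ fOf P e m + 1 := fun h => by
  have := shifted_inner H he hl hm h1 h2
  rw [h, (shifted_spec H he hm).2.1] at this
  norm_num at this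

/-- The common constituent. -/
theorem exists_center {l₁ l₂ l₃ l₄ : ↥(P : Subgroup G) →* ℂˣ} (n₁ : l₁ ≠ 1) (n₂ : l₂ ≠ 1)
    (n₃ : l₃ ≠ 1) (n₄ : l₄ ≠ 1) (d₁₂ : l₁ ≠ l₂ ∧ l₁ ≠ l₂⁻¹) (d₁₃ : l₁ ≠ l₃ ∧ l₁ ≠ l₃⁻¹)
    (d₁₄ : l₁ ≠ l₄ ∧ l₁ ≠ l₄⁻¹) (d₂₃ : l₂ ≠ l₃ ∧ l₂ ≠ l₃⁻¹) (d₂₄ : l₂ ≠ l₄ ∧ l₂ ≠ l₄⁻¹)
    (d₃₄ : l₃ ≠ l₄ ∧ l₃ ≠ l₄⁻¹) :
    ∃ φ : G → ℂ, IsSignedIrr φ ∧ classInner φ 1 = 0 ∧
      ∀ l : ↥(P : Subgroup G) →* ℂˣ, l ≠ 1 →
        IsSignedIrr (fOf P e l + 1 + φ) ∧ classInner (fOf P e l + 1 + φ) φ = 0 := by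
  classical
  set F := fun l => fOf P e l + 1
  obtain ⟨hg₁, hn₁, hone₁⟩ := shifted_spec H he n₁
  obtain ⟨hg₂, hn₂, -⟩ := shifted_spec H he n₂
  obtain ⟨hg₃, hn₃, -⟩ := shifted_spec H he n₃
  obtain ⟨hg₄, hn₄, -⟩ := shifted_spec H he n₄
  obtain ⟨u, w₀, hu, hw₀, huw₀, hF₁₀⟩ := exists_sub_of_norm_two hg₁ hn₁
  -- after renaming, `F₁ = a + b₁` with `⟪F₂, a⟫ = 1`
  obtain ⟨a, b₁, ha, hb₁, hab₁, hF₁, hF₂a⟩ : ∃ a b₁ : G → ℂ, IsSignedIrr a ∧ IsSignedIrr b₁ ∧
      classInner a b₁ = 0 ∧ F l₁ = a + b₁ ∧ classInner (F l₂) a = 1 := by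
    have hw : IsSignedIrr (-w₀) := hw₀.neg
    have huw : classInner u (-w₀) = 0 := by rw [CharCore.classInner_neg_right, huw₀, neg_zero]
    have hwu : classInner (-w₀) u = 0 := by rw [← CharCore.conj_classInner, huw, map_zero]
    have hF₁' : F l₁ = u + -w₀ := by rw [← sub_eq_add_neg]; exact hF₁₀
    have h12 := shifted_inner H he n₂ n₁ (Ne.symm d₁₂.1) (fun h => d₁₂.2 (by rw [h]; exact MonoidHom.ext fun x => (inv_inv (l₁ x)).symm))
    change classInner (F l₂) (F l₁) = 1 at h12
    rw [hF₁', CharCore.classInner_add_right] at h12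
    obtain ⟨i, hi⟩ := Coherence.inner_gen_int hg₂ hu.isGeneralizedCharacter
    obtain ⟨j, hj⟩ := Coherence.inner_gen_int hg₂ hw.isGeneralizedCharacter
    change classInner (F l₂) u = i at hi
    change classInner (F l₂) (-w₀) = j at hj
    rw [hi, hj] at h12
    have hij : i + j = 1 := by exact_mod_cast h12
    have hb := (bessel (Finset.univ : Finset (Fin 2)) (v := ![u, -w₀]) (k := ![i, j]) hg₂ (n := 2)
      (by rw [hn₂]; norm_num) (by intro k _; fin_cases k <;> assumption)
      (by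
        intro k _ l _ hkl
        fin_cases k <;> fin_cases l <;> first | exact absurd rfl hkl | assumption)
      (by intro k _; fin_cases k <;> assumption)).1
    simp [Fin.sum_univ_two] at hb
    rcases (show i = 1 ∨ j = 1 by
      have : 0 ≤ i ∧ i ≤ 1 := by constructor <;> nlinarith
      omega) with h | h
    · exact ⟨u, -w₀, hu, hw, huw, hF₁', by rw [hi, h]; simp⟩
    · exact ⟨-w₀, u, hw, hu, hwu, by rw [hF₁', add_comm], by rw [hj, h]; simp⟩
  have hz : ∀ {x y : G → ℂ}, classInner x y = 0 → classInner y x = 0 := fun {x y} h => by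
    rw [← CharCore.conj_classInner, h, map_zero]
  -- splitting off `a`
  have hsplit : ∀ l, l ≠ 1 → classInner (F l) a = 1 →
      IsSignedIrr (F l - a) ∧ classInner a (F l - a) = 0 := by
    intro l hl h
    obtain ⟨hg, hn, -⟩ := shifted_spec H he hl
    have ha' : classInner a (F l) = 1 := by rw [← CharCore.conj_classInner, h, map_one]
    refine ⟨isSignedIrr_of_norm_one (Coherence.gen_sub hg ha.isGeneralizedCharacter) ?_, ?_⟩
    · rw [CharCore.classInner_sub_left, CharCore.classInner_sub_right, CharCore.classInner_sub_right,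
        hn, h, ha', signed_inner_self ha]
      norm_num
    · rw [CharCore.classInner_sub_right, ha', signed_inner_self ha, sub_self]
  obtain ⟨hb₂, hab₂⟩ := hsplit l₂ n₂ hF₂a
  have horth : ∀ {l m}, l ≠ 1 → m ≠ 1 → l ≠ m ∧ l ≠ m⁻¹ → classInner (F l) a = 1 →
      classInner (F m) a = 1 → classInner (F l - a) (F m - a) = 0 := by
    intro l m hl hm hd h h'
    have ha' : classInner a (F m) = 1 := by rw [← CharCore.conj_classInner, h', map_one]
    rw [CharCore.classInner_sub_left, CharCore.classInner_sub_right, CharCore.classInner_sub_right,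
      shifted_inner H he hl hm hd.1 hd.2, h, ha', signed_inner_self ha]
    norm_num
  have hF₁a : classInner (F l₁) a = 1 := by
    rw [hF₁, CharCore.classInner_add_left, signed_inner_self ha, hz hab₁, add_zero]
  have hb₁' : F l₁ - a = b₁ := by rw [hF₁, add_sub_cancel_left]
  have hb₁₂ : classInner b₁ (F l₂ - a) = 0 := hb₁' ▸ horth n₁ n₂ d₁₂ hF₁a hF₂a
  -- a lift missing `a` is `b₁ + b₂`
  have hmiss : ∀ l, l ≠ 1 → (l ≠ l₁ ∧ l ≠ l₁⁻¹) → (l ≠ l₂ ∧ l ≠ l₂⁻¹) →
      classInner (F l) a = 1 ∨ F l = b₁ + (F l₂ - a) := by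
    intro l hl d1 d2
    obtain ⟨hg, hn, -⟩ := shifted_spec H he hl
    obtain ⟨k, hk⟩ := Coherence.inner_gen_int hg ha.isGeneralizedCharacter
    obtain ⟨k₁, hk₁⟩ := Coherence.inner_gen_int hg hb₁.isGeneralizedCharacter
    obtain ⟨k₂, hk₂⟩ := Coherence.inner_gen_int hg hb₂.isGeneralizedCharacter
    change classInner (F l) a = k at hk
    change classInner (F l) b₁ = k₁ at hk₁
    change classInner (F l) (F l₂ - a) = k₂ at hk₂
    have e1 := shifted_inner H he hl n₁ d1.1 d1.2
    change classInner (F l) (F l₁) = 1 at e1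
    rw [hF₁, CharCore.classInner_add_right, hk, hk₁] at e1
    have e1' : k + k₁ = 1 := by exact_mod_cast e1
    have e2 := shifted_inner H he hl n₂ d2.1 d2.2
    change classInner (F l) (F l₂) = 1 at e2
    rw [show F l₂ = a + (F l₂ - a) from (add_sub_cancel a (F l₂)).symm,
      CharCore.classInner_add_right, hk, hk₂] at e2
    have e2' : k + k₂ = 1 := by exact_mod_cast e2
    have hb := bessel (Finset.univ : Finset (Fin 3)) (v := ![a, b₁, F l₂ - a]) (k := ![k, k₁, k₂])
      (F := F l) hg (n := 2) (by rw [hn]; norm_num)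
      (by intro i _; fin_cases i <;> assumption)
      (by
        intro i _ j _ hij
        fin_cases i <;> fin_cases j <;>
          first
            | exact absurd rfl hij
            | assumption
            | exact hz (by assumption))
      (by intro i _; fin_cases i <;> assumption)
    simp [Fin.sum_univ_three] at hb
    obtain ⟨rfl, rfl⟩ : k₁ = 1 - k ∧ k₂ = 1 - k := ⟨by omega, by omega⟩
    rcases (show k = 0 ∨ k = 1 by
      have : 0 ≤ k ∧ k ≤ 1 := by constructor <;> nlinarith [hb.1]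
      omega) with rfl | rfl
    · right
      simpa using hb.2 (by norm_num)
    · left; rw [hk]; simp
  have d' : ∀ {x y : ↥(P : Subgroup G) →* ℂˣ}, x ≠ y ∧ x ≠ y⁻¹ → y ≠ x ∧ y ≠ x⁻¹ := fun h =>
    ⟨Ne.symm h.1, fun h' => h.2 (by rw [h']; exact MonoidHom.ext fun z => (inv_inv _).symm)⟩
  -- `l₃` does not miss `a`
  have hF₃a : classInner (F l₃) a = 1 := by
    by_contra h3
    have e3 := (hmiss l₃ n₃ (d' d₁₃) (d' d₂₃)).resolve_left h3
    rcases hmiss l₄ n₄ (d' d₁₄) (d' d₂₄) with h4 | h4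
    · have e34 := shifted_inner H he n₃ n₄ d₃₄.1 d₃₄.2
      change classInner (F l₃) (F l₄) = 1 at e34
      rw [e3, show F l₄ = a + (F l₄ - a) from (add_sub_cancel a (F l₄)).symm,
        CharCore.classInner_add_left, CharCore.classInner_add_right, CharCore.classInner_add_right,
        hz hab₁, hz hab₂, horth n₂ n₄ d₂₄ hF₂a h4,
        show classInner b₁ (F l₄ - a) = 0 from hb₁' ▸ horth n₁ n₄ d₁₄ hF₁a h4] at e34
      norm_num at e34
    · exact shifted_ne H he n₃ n₄ d₃₄.1 d₃₄.2 (e3.trans h4.symm)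
  obtain ⟨hb₃, hab₃⟩ := hsplit l₃ n₃ hF₃a
  have hb₁₃ : classInner b₁ (F l₃ - a) = 0 := hb₁' ▸ horth n₁ n₃ d₁₃ hF₁a hF₃a
  have hb₂₃ := horth n₂ n₃ d₂₃ hF₂a hF₃a
  -- every lift contains `a`
  have hall : ∀ l, l ≠ 1 → classInner (F l) a = 1 := by
    intro l hl
    by_cases h1 : l = l₁ ∨ l = l₁⁻¹
    · rcases h1 with rfl | rfl
      · exact hF₁a
      · have : F l₁⁻¹ = F l₁ := by
          simp only [F, fOf]; congr 2
          funext x; simp [theta, map_inv]; ring
        rw [this]; exact hF₁a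
    by_cases h2 : l = l₂ ∨ l = l₂⁻¹
    · rcases h2 with rfl | rfl
      · exact hF₂a
      · have : F l₂⁻¹ = F l₂ := by
          simp only [F, fOf]; congr 2
          funext x; simp [theta, map_inv]; ring
        rw [this]; exact hF₂a
    by_cases h3 : l = l₃ ∨ l = l₃⁻¹
    · rcases h3 with rfl | rfl
      · exact hF₃a
      · have : F l₃⁻¹ = F l₃ := by
          simp only [F, fOf]; congr 2
          funext x; simp [theta, map_inv]; ring
        rw [this]; exact hF₃a
    push Not at h1 h2 h3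
    obtain ⟨hg, hn, -⟩ := shifted_spec H he hl
    refine has_center hg hn ha hb₁ hb₂ hb₃ hab₁ hab₂ hab₃ hb₁₂ hb₁₃ hb₂₃ ?_ ?_ ?_
    · rw [← hF₁]; exact shifted_inner H he hl n₁ h1.1 h1.2
    · rw [add_sub_cancel]; exact shifted_inner H he hl n₂ h2.1 h2.2
    · rw [add_sub_cancel]; exact shifted_inner H he hl n₃ h3.1 h3.2
  refine ⟨-a, ha.neg, ?_, fun l hl => ?_⟩
  · -- `a` is not a multiple of the trivial character
    rw [CharCore.classInner_neg_left, neg_eq_zero]
    have h := hone₁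
    change classInner (F l₁) 1 = 0 at h
    rw [hF₁, CharCore.classInner_add_left] at h
    rcases signed_eq_or_inner ha (Or.inl CharCore.isIrrCharacter_one) with h1 | h1 | h1
    · rw [← h1, signed_inner_self ha, hz hab₁] at h; norm_num at h
    · rw [show (1 : G → ℂ) = -a by rw [h1, neg_neg], CharCore.classInner_neg_right,
        signed_inner_self ha, CharCore.classInner_neg_right, hz hab₁] at h
      norm_num at h
    · exact h1
  · obtain ⟨h1, h2⟩ := hsplit l hl (hall l hl)
    refine ⟨by simpa [F, sub_eq_add_neg] using h1, ?_⟩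
    rw [CharCore.classInner_neg_right, neg_eq_zero]
    simpa [F, sub_eq_add_neg] using hz h2

end Cfsg.Agent.InertTwo
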