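import Cfsg.Agent.CharB.PiSection
import Cfsg.Agent.CharB.FeitThompsonTI
import Cfsg.Agent.Lib.BlocksCore.PPart
import Cfsg.Agent.Lib.CharCore.Virtual
import Cfsg.Agent.Lib.CharInd.Brauer
import Cfsg.Agent.Lib.Transfer.PClasses
import Cfsg.Agent.Lib.Transfer.Hall

/-!
Sections of `p`-elements through a power map, and generalized characters lifted from a Sylow
`p`-subgroup.
-/

set_option autoImplicit false
set_option linter.unusedSectionVars false

open Cfsg
open scoped ComplexConjugate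

namespace Cfsg.Agent.InertTwo

universe u v

variable {p : ℕ} [hp : Fact p.Prime] {G : Type u} [Group G] [Finite G]

variable (p G) in
/-- Raising to the power `e` projects onto the `p`-part. -/
structure IsPExp (e : ℕ) : Prop where
  dvd : ordCompl[p] (Nat.card G) ∣ e
  modEq : e ≡ 1 [MOD ordProj[p] (Nat.card G)]

omit hp [Group G] [Finite G] in
theorem ordProj_mul_ordCompl : ordCompl[p] (Nat.card G) * ordProj[p] (Nat.card G) = Nat.card G := by
  rw [mul_comm]
  exact Nat.ordProj_mul_ordCompl_eq_self _ _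

theorem coprime_ord : (ordCompl[p] (Nat.card G)).Coprime (ordProj[p] (Nat.card G)) :=
  Nat.Coprime.symm (Nat.Coprime.pow_left _ (Nat.coprime_ordCompl hp.out Nat.card_pos.ne'))

variable (p G) in
theorem exists_isPExp : ∃ e, IsPExp p G e := by
  obtain ⟨e, he0, he1⟩ := Nat.chineseRemainder (coprime_ord (p := p) (G := G)) 0 1
  exact ⟨e, Nat.modEq_zero_iff_dvd.mp he0, he1⟩

namespace IsPExp

variable {e : ℕ}

theorem pow_pow (he : IsPExp p G e) (g : G) : (g ^ e) ^ ordProj[p] (Nat.card G) = 1 := by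
  obtain ⟨t, ht⟩ := he.dvd
  have h : e * ordProj[p] (Nat.card G) = Nat.card G * t := by
    conv_rhs => rw [← ordProj_mul_ordCompl (p := p) (G := G)]
    rw [ht]; ring
  rw [← pow_mul, h, pow_mul, pow_card_eq_one', one_pow]

theorem orderOf_pow_eq (he : IsPExp p G e) (g : G) : ∃ k, orderOf (g ^ e) = p ^ k := by
  obtain ⟨k, -, hk⟩ := (Nat.dvd_prime_pow hp.out).mp (orderOf_dvd_of_pow_eq_one (he.pow_pow g))
  exact ⟨k, hk⟩

theorem pow_eq_of_pElem (he : IsPExp p G e) {x : G} (hx : ∃ k, orderOf x = p ^ k) :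
    x ^ e = x := by
  obtain ⟨k, hk⟩ := hx
  have h : orderOf x ∣ ordProj[p] (Nat.card G) :=
    hk ▸ pow_dvd_pow p ((hp.out.pow_dvd_iff_le_factorization Nat.card_pos.ne').mp
      (hk ▸ orderOf_dvd_natCard x))
  conv_rhs => rw [← pow_one x]
  exact pow_eq_pow_iff_modEq.mpr (he.modEq.of_dvd h)

theorem pow_eq_one_of_regular (he : IsPExp p G e) {u : G} (hu : ¬ p ∣ orderOf u) : u ^ e = 1 :=
  orderOf_dvd_iff_pow_eq_one.mp ((Nat.Coprime.dvd_of_dvd_mul_right
    (Nat.Coprime.pow_right _ ((hp.out.coprime_iff_not_dvd.mpr hu).symm))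
    ((ordProj_mul_ordCompl (p := p) (G := G)).symm ▸ orderOf_dvd_natCard u)).trans he.dvd)

theorem pow_mul_eq (he : IsPExp p G e) {x u : G} (hc : Commute x u)
    (hx : ∃ k, orderOf x = p ^ k) (hu : ¬ p ∣ orderOf u) : (x * u) ^ e = x := by
  rw [hc.mul_pow, he.pow_eq_of_pElem hx, he.pow_eq_one_of_regular hu, mul_one]

theorem pow_of_isPPart (he : IsPExp p G e) {g z : G} (h : IsPPart p g z) : g ^ e = z := by
  obtain ⟨y, rfl, hc, hz, hy⟩ := h
  exact he.pow_mul_eq hc hz hy

theorem isPPart (he : IsPExp p G e) (g : G) : IsPPart p g (g ^ e) := by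
  obtain ⟨x, hx⟩ := BlocksCore.exists_pPart hp.out g
  rwa [he.pow_of_isPPart hx]

theorem pow_eq_one_iff (he : IsPExp p G e) (g : G) : g ^ e = 1 ↔ ¬ p ∣ orderOf g := by
  refine ⟨fun h => ?_, he.pow_eq_one_of_regular⟩
  obtain ⟨y, hy, -, -, hyp⟩ := he.isPPart g
  rw [h, one_mul] at hy
  rwa [hy] at hyp

/-- The same exponent works for every quotient. -/
theorem of_surjective (he : IsPExp p G e) {H : Type v} [Group H] [Finite H] (f : G →* H)
    (hf : Function.Surjective f) : IsPExp p H e := by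
  have hd : Nat.card H ∣ Nat.card G := Subgroup.card_dvd_of_surjective f hf
  exact ⟨(Nat.ordCompl_dvd_ordCompl_of_dvd hd p).trans he.dvd,
    he.modEq.of_dvd (pow_dvd_pow p
      ((Nat.factorization_le_iff_dvd Nat.card_pos.ne' Nat.card_pos.ne').mpr hd p))⟩

/-- On an elementary subgroup the power map splits off the `p`-part. -/
theorem exists_split (he : IsPExp p G e) (E : Subgroup G) {r : ℕ} (hr : r.Prime)
    (hE : IsElementary r E) :
    ∃ φ ψ : E →* E, (∀ a, φ a = a ^ e) ∧ (∀ a, φ a * ψ a = a) ∧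
      (∀ a, φ (φ a) = φ a) ∧ (∀ a, φ (ψ a) = 1) := by
  obtain ⟨φ, hφ⟩ := CharB.exists_powHom hr hE (coprime_ord (p := p) (G := G))
    ((ordProj_mul_ordCompl (p := p) (G := G)).symm ▸ Subgroup.card_subgroup_dvd_card E) he.dvd he.modEq
  have hidem : ∀ a, φ (φ a) = φ a := fun a => by
    apply Subtype.ext
    rw [hφ (φ a), SubmonoidClass.coe_pow, hφ a, SubmonoidClass.coe_pow]
    exact he.pow_eq_of_pElem (he.orderOf_pow_eq _)
  have hker : ∀ a, φ ((φ a)⁻¹ * a) = 1 := fun a => by rw [map_mul, map_inv, hidem, inv_mul_cancel]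
  have hN := CharInd.isNilpotent_of_isElementary hr hE
  have hcomm : ∀ a b, Commute (φ b) ((φ a)⁻¹ * a) := fun a b => by
    refine Transfer.nilpotent_commute_of_coprime hN ?_
    rw [← Subgroup.orderOf_coe, ← Subgroup.orderOf_coe, hφ b, SubmonoidClass.coe_pow]
    obtain ⟨k, hk⟩ := he.orderOf_pow_eq (b : G)
    rw [hk]
    refine Nat.Coprime.pow_left _ (hp.out.coprime_iff_not_dvd.mpr ((he.pow_eq_one_iff _).mp ?_))
    rw [← SubmonoidClass.coe_pow, ← hφ, hker]
    rfl
  refine ⟨φ, MonoidHom.mk' (fun a => (φ a)⁻¹ * a) fun a b => ?_, hφ, fun a => mul_inv_cancel_left _ _,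
    hidem, hker⟩
  calc (φ (a * b))⁻¹ * (a * b)
      = (φ b)⁻¹ * (((φ a)⁻¹ * a) * b) := by rw [map_mul, mul_inv_rev]; simp only [mul_assoc]
    _ = ((φ a)⁻¹ * a) * ((φ b)⁻¹ * b) := by
        rw [← mul_assoc, ((hcomm a b).inv_left).eq, mul_assoc]

end IsPExp

/-- Equal values on conjugate elements of `P`. -/
def IsStable (P : Subgroup G) (θ : P → ℂ) : Prop :=
  ∀ x y : P, IsConj (x : G) (y : G) → θ x = θ y

theorem exists_conj_mem (P : Sylow p G) {e : ℕ} (he : IsPExp p G e) (g : G) :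
    ∃ x : (P : Subgroup G), IsConj (g ^ e) (x : G) := by
  obtain ⟨k, hk⟩ := he.orderOf_pow_eq g
  obtain ⟨c, hc⟩ := Transfer.exists_conj_mem_sylow P hk
  exact ⟨⟨_, hc⟩, isConj_iff.mpr ⟨c, rfl⟩⟩

open scoped Classical in
/-- The function `g ↦ θ x` for the element `x ∈ P` conjugate to the `p`-part `g ^ e`. -/
noncomputable def lift (P : Subgroup G) (e : ℕ) (θ : P → ℂ) : G → ℂ :=
  fun g => if h : ∃ x : P, IsConj (g ^ e) (x : G) then θ h.choose else 0

omit [Finite G] in
theorem lift_eq {P : Subgroup G} {e : ℕ} {θ : P → ℂ} (hθ : IsStable P θ) {g : G} {x : P}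
    (h : IsConj (g ^ e) (x : G)) : lift P e θ g = θ x := by
  classical
  have h' : ∃ x : P, IsConj (g ^ e) (x : G) := ⟨x, h⟩
  rw [lift, dif_pos h']
  exact hθ _ _ (h'.choose_spec.symm.trans h)

omit [Finite G] in
theorem isClassFunction_lift {P : Subgroup G} {e : ℕ} {θ : P → ℂ} (hθ : IsStable P θ) :
    IsClassFunction G (lift P e θ) := by
  classical
  intro g h
  have hc : IsConj ((h * g * h⁻¹) ^ e) (g ^ e) :=
    (isConj_iff.mpr ⟨h, conj_pow.symm⟩).symm
  by_cases hx : ∃ x : P, IsConj (g ^ e) (x : G)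
  · obtain ⟨x, hx⟩ := hx
    rw [lift_eq hθ hx, lift_eq hθ (hc.trans hx)]
  · rw [lift, lift, dif_neg hx, dif_neg fun ⟨x, hx'⟩ => hx ⟨x, hc.symm.trans hx'⟩]

theorem isGeneralizedCharacter_lift (P : Sylow p G) {e : ℕ} (he : IsPExp p G e)
    {θ : ↥(P : Subgroup G) → ℂ} (hθ : IsStable (P : Subgroup G) θ)
    (hgen : IsGeneralizedCharacter ↥(P : Subgroup G) θ) :
    IsGeneralizedCharacter G (lift (P : Subgroup G) e θ) := by
  have := Fintype.ofFinite G
  refine CharInd.isGeneralizedCharacter_of_elementary (isClassFunction_lift hθ) fun E r hr hE => ?_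
  obtain ⟨φ, -, hφ, -, -, -⟩ := he.exists_split E hr hE
  let R : Subgroup G := φ.range.map E.subtype
  have hR : IsPGroup p R := IsPGroup.iff_orderOf.mpr fun x => by
    obtain ⟨b, ⟨a, ha⟩, hb⟩ := x.2
    obtain ⟨k, hk⟩ := he.orderOf_pow_eq (a : G)
    refine ⟨k, ?_⟩
    rw [← Subgroup.orderOf_coe, ← hk, ← hb, ← ha, hφ]
    simp
  obtain ⟨Q, hQ⟩ := hR.exists_le_sylow
  obtain ⟨c, hc⟩ := MulAction.exists_smul_eq G Q P
  have hmem : ∀ a : E, c * (φ a : G) * c⁻¹ ∈ (P : Subgroup G) := fun a => by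
    rw [← hc, Sylow.coe_subgroup_smul]
    exact Subgroup.mem_pointwise_smul_iff_inv_smul_mem.mpr
      (by
        have := hQ ⟨φ a, ⟨a, rfl⟩, rfl⟩
        simpa [MulAut.smul_def, mul_assoc] using this)
  let f : E →* ↥(P : Subgroup G) :=
    (((MulAut.conj c).toMonoidHom.comp E.subtype).comp φ).codRestrict _ fun a => by
      simpa using hmem a
  have hfun : (fun a : E => lift (P : Subgroup G) e θ (a : G)) = fun a => θ (f a) := by
    funext a
    exact lift_eq hθ (isConj_iff.mpr ⟨c, by rw [← SubmonoidClass.coe_pow, ← hφ]; rfl⟩)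
  rw [hfun]
  exact CharCore.isGeneralized_comp hgen f

open scoped Classical in
/-- An extension of a function supported on the `p`-regular elements by a character of a central
`p`-subgroup `Z`. -/
noncomputable def twist {H : Type v} [Group H] (f : H →* G) (e : ℕ) (w : f.ker →* ℂˣ)
    (V : G → ℂ) : H → ℂ :=
  fun g => if h : g ^ e ∈ f.ker then (w ⟨g ^ e, h⟩ : ℂ) * V (f g) else 0

theorem isGeneralizedCharacter_twist {H : Type v} [Group H] [Finite H] (f : H →* G)
    (hcent : f.ker ≤ Subgroup.center H) {e : ℕ} (he : IsPExp p H e) (heG : IsPExp p G e)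
    (w : f.ker →* ℂˣ)
    {V : G → ℂ} (hV : IsGeneralizedCharacter G V) (hreg : ∀ g, p ∣ orderOf g → V g = 0) :
    IsGeneralizedCharacter H (twist f e w V) := by
  classical
  have := Fintype.ofFinite H
  have := Fintype.ofFinite G
  have hVcl := CharCore.IsGeneralizedCharacter.isClassFunction hV
  have hcl : IsClassFunction H (twist f e w V) := fun g h => by
    have h1 : (h * g * h⁻¹) ^ e = h * g ^ e * h⁻¹ := conj_pow
    by_cases hg : g ^ e ∈ f.ker
    · have h2 : (h * g * h⁻¹) ^ e = g ^ e := by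
        rw [h1, Subgroup.mem_center_iff.mp (hcent hg) h, mul_inv_cancel_right]
      simp only [twist, h2, hg, dif_pos, map_mul, map_inv, hVcl (f g) (f h)]
    · have h2 : (h * g * h⁻¹) ^ e ∉ f.ker := fun hh => hg (by
        have h3 := Subgroup.mem_center_iff.mp (hcent hh) h⁻¹
        rw [h1] at h3 hh
        have : g ^ e = h * g ^ e * h⁻¹ := by
          calc g ^ e = h⁻¹ * (h * g ^ e * h⁻¹) * h := by group
            _ = h * g ^ e * h⁻¹ * h⁻¹ * h := by rw [h3]
            _ = _ := by group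
        rwa [this])
      simp only [twist, hg, h2, dif_neg, not_false_iff]
  refine CharInd.isGeneralizedCharacter_of_elementary hcl fun E r hr hE => ?_
  have := Fintype.ofFinite E
  obtain ⟨φ, ψ, hφ, hφψ, hidem, hψ⟩ := he.exists_split E hr hE
  rw [CharCore.isGeneralizedCharacter_iff]
  refine ⟨fun a b => hcl a b, fun α => ?_⟩
  let R₀ : Subgroup E := φ.range ⊓ f.ker.subgroupOf E
  have hR₀c : R₀ ≤ Subgroup.center E := fun a ha => Subgroup.mem_center_iff.mpr fun b =>
    Subtype.ext (Subgroup.mem_center_iff.mp (hcent (Subgroup.mem_subgroupOf.mp ha.2)) (b : H))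
  have hVE : ∀ a : E, φ a ∉ R₀ → V (f (a : H)) = 0 := fun a ha => hreg _ (by
    by_contra h
    refine ha ⟨⟨a, rfl⟩, ?_⟩
    show (φ a : H) ∈ f.ker
    rw [hφ, SubmonoidClass.coe_pow, MonoidHom.mem_ker, map_pow]
    exact heG.pow_eq_one_of_regular h)
  have hVψ : ∀ a : E, φ a ∈ R₀ → V (f (a : H)) = V (f (ψ a : H)) := fun a ha => by
    conv_lhs => rw [← hφψ a]
    rw [Subgroup.coe_mul, map_mul, MonoidHom.mem_ker.mp (Subgroup.mem_subgroupOf.mp ha.2), one_mul]
  have htw : ∀ a : E, twist f e w V (a : H) =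
      if h : φ a ∈ R₀ then (w ⟨_, Subgroup.mem_subgroupOf.mp h.2⟩ : ℂ) * V (f (a : H)) else 0 := by
    intro a
    have hpow : ((a : H) ^ e) = (φ a : H) := by rw [hφ, SubmonoidClass.coe_pow]
    by_cases h : φ a ∈ R₀
    · have h' : (a : H) ^ e ∈ f.ker := hpow ▸ Subgroup.mem_subgroupOf.mp h.2
      rw [twist, dif_pos h', dif_pos h]
      simp only [hpow]
    · have h' : (a : H) ^ e ∉ f.ker := fun h' => h ⟨⟨a, rfl⟩, by
        show (φ a : H) ∈ f.ker
        exact hpow ▸ h'⟩
      rw [twist, dif_neg h', dif_neg h]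
  -- the scalars by which `R₀` acts
  have hα1 := CharCore.irr_apply_one_ne_zero α
  have hν : ∀ r : R₀, ∃ c : ℂ, ∀ x : E, (α : E → ℂ) ((r : E) * x) = c * (α : E → ℂ) x := fun r => by
    obtain ⟨c, -, hc⟩ := CharB.exists_scalar_mul_of_central α.2 (hR₀c r.2)
    exact ⟨c, hc⟩
  choose ν hν using hν
  have hνmul : ∀ r s, ν (r * s) = ν r * ν s := fun r s => by
    have h := hν (r * s) 1
    rw [Subgroup.coe_mul, mul_assoc, hν, hν, ← mul_assoc] at h
    exact (mul_right_cancel₀ hα1 h).symm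
  -- factor through the two projections
  let s : Finset E := Finset.univ.filter fun a => φ a = 1
  let A : ℂ := ∑ a ∈ s, V (f (a : H)) * conj ((α : E → ℂ) a)
  let B : ℂ := ∑ r : R₀, (w ⟨_, Subgroup.mem_subgroupOf.mp r.2.2⟩ : ℂ) * conj (ν r)
  have hsplit : ∀ F : E → ℂ, (∀ a, φ a ∉ R₀ → F a = 0) →
      ∑ a, F a = ∑ r : R₀, ∑ a ∈ s, F ((r : E) * a) := by
    intro F hF
    rw [← Finset.sum_product', ← Finset.sum_subset
      (Finset.subset_univ (Finset.univ.filter fun a => φ a ∈ R₀)) fun a _ ha =>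
        hF a fun h => ha (Finset.mem_filter.mpr ⟨Finset.mem_univ _, h⟩)]
    refine Finset.sum_bij' (fun a ha => (⟨φ a, (Finset.mem_filter.mp ha).2⟩, ψ a))
      (fun q _ => (q.1 : E) * q.2) ?_ ?_ ?_ ?_ ?_
    · intro a _
      simp only [s, Finset.mem_product, Finset.mem_univ, Finset.mem_filter, true_and]
      exact hψ a
    · rintro ⟨r, a⟩ hq
      simp only [s, Finset.mem_product, Finset.mem_univ, Finset.mem_filter, true_and] at hq ⊢
      obtain ⟨b, hb⟩ := r.2.1
      rw [map_mul, hq, mul_one, ← hb, hidem, hb]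
      exact r.2
    · intro a _
      exact hφψ a
    · rintro ⟨r, a⟩ hq
      simp only [s, Finset.mem_product, Finset.mem_univ, Finset.mem_filter, true_and] at hq
      obtain ⟨b, hb⟩ := r.2.1
      have h1 : φ ((r : E) * a) = r := by rw [map_mul, hq, mul_one, ← hb, hidem]
      have h2 : ψ ((r : E) * a) = a := by
        have h := hφψ ((r : E) * a)
        rw [h1] at h
        exact mul_left_cancel h
      exact Prod.ext (Subtype.ext h1) h2
    · intro a _
      rw [hφψ]
  have hval : ∀ r : R₀, ∀ a ∈ s, φ ((r : E) * a) = r ∧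
      V (f (((r : E) * a : E) : H)) = V (f (a : H)) := by
    intro r a ha
    obtain ⟨b, hb⟩ := r.2.1
    refine ⟨by rw [map_mul, (Finset.mem_filter.mp ha).2, mul_one, ← hb, hidem], ?_⟩
    rw [Subgroup.coe_mul, map_mul, MonoidHom.mem_ker.mp (Subgroup.mem_subgroupOf.mp r.2.2), one_mul]
  have hN : classInner (fun a : E => twist f e w V (a : H)) (α : E → ℂ)
      = (Nat.card E : ℂ)⁻¹ * (B * A) := by
    rw [CharCore.classInner_def, hsplit _ (fun a ha => by rw [htw, dif_neg ha, zero_mul]),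
      Finset.sum_mul, ]
    congr 1
    refine Finset.sum_congr rfl fun r _ => ?_
    rw [Finset.mul_sum]
    refine Finset.sum_congr rfl fun a ha => ?_
    obtain ⟨h1, h2⟩ := hval r a ha
    have h3 : φ ((r : E) * a) ∈ R₀ := by rw [h1]; exact r.2
    rw [htw, dif_pos h3, hν r a, map_mul (starRingEnd ℂ)]
    rw [show (⟨_, Subgroup.mem_subgroupOf.mp h3.2⟩ : f.ker) = ⟨_, Subgroup.mem_subgroupOf.mp r.2.2⟩
      from Subtype.ext (congrArg (fun z : E => (z : H)) h1), h2]
    ring
  -- the same sum with trivial twist is an integer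
  have hint : ∃ k : ℤ, (Nat.card E : ℂ)⁻¹ * ((Nat.card R₀ : ℂ) * A) = k := by
    have hVgen : IsGeneralizedCharacter E (fun a : E => V (f (a : H))) :=
      CharCore.isGeneralized_comp hV (f.comp E.subtype)
    have hαgen : IsGeneralizedCharacter E (fun a : E => (α : E → ℂ) (ψ a)) :=
      CharCore.IsCharacter.isGeneralized (CharCore.isCharacter_comp (CharCore.irr_isCharacter α) ψ)
    obtain ⟨k, hk⟩ := CharCore.IsGeneralizedCharacter.exists_classInner_eq_intCast hVgen hαgen
    refine ⟨k, ?_⟩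
    rw [← hk, CharCore.classInner_def, hsplit _ (fun a ha => by rw [hVE a ha, zero_mul]),
      Nat.card_eq_fintype_card (α := R₀)]
    congr 1
    rw [← Finset.card_univ, ← nsmul_eq_mul, ← Finset.sum_const]
    refine Finset.sum_congr rfl fun r _ => Finset.sum_congr rfl fun a ha => ?_
    obtain ⟨h1, h2⟩ := hval r a ha
    have h4 : ψ ((r : E) * a) = a := by
      have h := hφψ ((r : E) * a)
      rw [h1] at h
      exact mul_left_cancel h
    rw [h2, h4]
  obtain ⟨k, hk⟩ := hint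
  by_cases hB : ∀ r : R₀, (w ⟨_, Subgroup.mem_subgroupOf.mp r.2.2⟩ : ℂ) * conj (ν r) = 1
  · refine ⟨k, ?_⟩
    rw [hN, ← hk]
    simp [B, hB]
  · refine ⟨0, ?_⟩
    push Not at hB
    obtain ⟨r₁, hr₁⟩ := hB
    have hB0 : B = 0 := by
      have h : B = ((w ⟨_, Subgroup.mem_subgroupOf.mp r₁.2.2⟩ : ℂ) * conj (ν r₁)) * B := by
        simp only [B, Finset.mul_sum]
        refine (Fintype.sum_equiv (Equiv.mulLeft r₁) _ _ fun r => ?_).symm
        simp only [Equiv.coe_mulLeft, hνmul, map_mul]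
        rw [show (⟨(((r₁ * r : R₀) : E) : H), Subgroup.mem_subgroupOf.mp (r₁ * r).2.2⟩ : f.ker) =
          ⟨_, Subgroup.mem_subgroupOf.mp r₁.2.2⟩ * ⟨_, Subgroup.mem_subgroupOf.mp r.2.2⟩ from rfl,
          map_mul, Units.val_mul]
        ring
      by_contra h0
      exact hr₁ (mul_right_cancel₀ h0 (by rw [one_mul]; exact h.symm))
    simp [hN, hB0]

end Cfsg.Agent.InertTwo
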